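import Cfsg.Agent.Lib.Helper39.BG11Defs

set_option autoImplicit false

/-! B-G S1417 ladder, rung 1. -/

namespace Cfsg.Agent.Lib.Helper67.BG11

open Subgroup Cfsg.Agent.Lib.Helper30 Cfsg.Agent.Lib.Helper39.BG11

universe u

variable {G : Type u} [Group G] [Finite G] {M A A₀ : Subgroup G} {p : ℕ} [Fact p.Prime]

theorem mem_sigma_of_dvd (hG : Cfsg.IsMinSimpleOddOrder G) (hM : IsCoatom M) {q : ℕ}
    [hq : Fact q.Prime] (h : q ∣ Nat.card (Cfsg.sigmaCore M)) : q ∈ Cfsg.sigma M :=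
  (Cfsg.Agent.Lib.Helper28.BG12.sigmaCore_hall hG hM).2.1 q hq.out h

theorem isSylowIn_of_sigmaCore (hG : Cfsg.IsMinSimpleOddOrder G) (hM : IsCoatom M) {q : ℕ}
    [hq : Fact q.Prime] (hqσ : q ∈ Cfsg.sigma M) {Q : Subgroup G}
    (hQ : IsSylowIn q Q (Cfsg.sigmaCore M)) : IsSylowIn q Q M ∧ IsSylowIn q Q ⊤ := by
  have hh := Cfsg.Agent.S1350.result hG M hM
  constructor
  · refine ⟨hQ.le.trans hh.1.1, hQ.isPGroup, ?_⟩
    rw [← relIndex_mul_relIndex Q _ M hQ.le hh.1.1]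
    intro hd
    rcases (Nat.Prime.dvd_mul hq.out).mp hd with h | h
    · exact hQ.not_dvd h
    · exact hh.1.2.2 q hq.out hqσ h
  · refine ⟨le_top, hQ.isPGroup, ?_⟩
    rw [relIndex_top_right, ← relIndex_mul_index hQ.le]
    intro hd
    rcases (Nat.Prime.dvd_mul hq.out).mp hd with h | h
    · exact hQ.not_dvd h
    · exact hh.2.1.2 q hq.out hqσ h

theorem mem_maxInv_of_isSylowIn_top {q : ℕ} [Fact q.Prime] {Q : Subgroup G}
    (hQ : IsSylowIn q Q ⊤) (hA : A ≤ normalizer (Q : Set G)) :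
    Q ∈ Cfsg.maxInvSubgroups ⊤ A {q} :=
  ⟨mem_invSubgroups_top_iff.mpr ⟨hQ.isPGroup, hA⟩, fun R hR hQR =>
    hQ.eq_of_le le_top (mem_invSubgroups_top_iff.mp hR).1 hQR⟩

omit [Finite G] in
theorem not_dvd_card_A (h : Hyp M p A A₀) {q : ℕ} [hq : Fact q.Prime] (hqσ : q ∈ Cfsg.sigma M) :
    ¬ q ∣ Nat.card A := by
  rw [h.card]
  intro hd
  have h1 : q ∣ p := hq.out.dvd_of_dvd_pow hd
  have h2 : q = p := (Nat.prime_dvd_prime_iff_eq hq.out (Fact.out : p.Prime)).mp h1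
  exact h.ns (h2 ▸ hqσ)

/-- **Rung 1**. -/
theorem noCommon (hG : Cfsg.IsMinSimpleOddOrder G) (h : Hyp M p A A₀)
    (ht : Cfsg.TransitivityHypothesis A) : NoCommon M A := by
  intro g hg hAg q _ Q₁ Q₂ H hQ₁ hQ₂ hA₁ hA₂ hH hAH hH₁ hH₂
  have hQ₁ne : Q₁ ≠ ⊥ := by
    rintro rfl
    exact hH₁ (inf_bot_eq _)
  have hqσ : q ∈ Cfsg.sigma M := mem_sigma_of_dvd hG h.max
    ((dvd_card_of_isPGroup_ne_bot hQ₁.isPGroup hQ₁ne).trans (card_dvd_of_le hQ₁.le))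
  have hqA := not_dvd_card_A h hqσ
  have hS₁ := (isSylowIn_of_sigmaCore hG h.max hqσ hQ₁).2
  have hQ₃ : IsSylowIn q (cj g⁻¹ Q₂) (Cfsg.sigmaCore M) := by
    have := hQ₂.cj g⁻¹
    rwa [cj_inv_cj] at this
  have hS₂ : IsSylowIn q Q₂ ⊤ := by
    have := ((isSylowIn_of_sigmaCore hG h.max hqσ hQ₃).2).cj g
    have e : Cfsg.Agent.Lib.Helper30.cj g (⊤ : Subgroup G) = ⊤ := by
      apply Subgroup.map_top_of_surjective
      exact (MulAut.conj g).surjective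
    rwa [cj_cj_inv, e] at this
  obtain ⟨k, hk, hkQ⟩ := kconj_of_common_overgroup hG ht hqA
    (mem_maxInv_of_isSylowIn_top hS₁ hA₁) (mem_maxInv_of_isSylowIn_top hS₂ hA₂) hH hAH hH₁ hH₂
  have hkM : k ∈ M := h.cent (transK_le_centralizer A hk)
  have hQ₂' : IsSylowIn q Q₂ (Cfsg.sigmaCore M) := by
    have := hQ₁.cj k
    rwa [← hkQ, cj_eq_of_mem_normalizer
      (Cfsg.Agent.Lib.Helper28.BG12.le_normalizer_sigmaCore M hkM)] at this
  obtain ⟨m, hm, hmQ⟩ := hQ₃.conj hQ₂'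
  rw [← cj_mul] at hmQ
  have h1 : m * g⁻¹ ∈ normalizer (Q₂ : Set G) := mem_normalizer_of_cj_eq hmQ.symm
  have h2 : m * g⁻¹ ∈ M := Cfsg.Agent.Lib.Helper68.normalizer_le_of_mem_sigma hqσ
    (isSylowIn_of_sigmaCore hG h.max hqσ hQ₂').1 h1
  have hmM : m ∈ M := Cfsg.Agent.Lib.Helper28.BG12.sigmaCore_le M hm
  apply hg
  have h3 : g⁻¹ ∈ M := by
    have := M.mul_mem (M.inv_mem hmM) h2
    rwa [inv_mul_cancel_left] at this
  exact (M.inv_mem_iff).mp h3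

end Cfsg.Agent.Lib.Helper67.BG11
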