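import Cfsg.Agent.Lib.Helper67.BG11_1

set_option autoImplicit false

/-! B-G S1417 ladder, rung 2. -/

namespace Cfsg.Agent.Lib.Helper67.BG11

open Subgroup Cfsg.Agent.Lib.Helper30 Cfsg.Agent.Lib.Helper39.BG11

universe u

variable {G : Type u} [Group G] [Finite G] {M A A₀ : Subgroup G} {p : ℕ} [Fact p.Prime]

theorem coprime_A_sigmaCore (hG : Cfsg.IsMinSimpleOddOrder G) (h : Hyp M p A A₀) :
    (Nat.card A).Coprime (Nat.card (Cfsg.sigmaCore M)) := by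
  rw [h.card]
  apply Nat.Coprime.pow_left
  rw [Nat.Prime.coprime_iff_not_dvd (Fact.out : p.Prime)]
  intro hd
  exact h.ns (mem_sigma_of_dvd hG h.max hd)

theorem A_ne_top (h : Hyp M p A A₀) : A ≠ ⊤ := by
  rintro rfl
  exact h.max.1 (top_le_iff.mp h.le)

theorem ne_bot_of_isSylowIn {q : ℕ} [Fact q.Prime] {Q D : Subgroup G} (hQ : IsSylowIn q Q D)
    (hq : q ∣ Nat.card D) : Q ≠ ⊥ := by
  rintro rfl
  apply hQ.not_dvd
  rwa [relIndex_bot_left]

/-- **Rung 2**. -/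
theorem ti_of_noCommon (hG : Cfsg.IsMinSimpleOddOrder G) (h : Hyp M p A A₀) (h1 : NoCommon M A) :
    TI M A := by
  intro g hg hAg
  by_contra hD
  set D := Cfsg.sigmaCore M ⊓ Cfsg.Agent.Lib.Helper30.cj g M with hDdef
  have hAσ : A ≤ normalizer (Cfsg.sigmaCore M : Set G) :=
    h.le.trans (Cfsg.Agent.Lib.Helper28.BG12.le_normalizer_sigmaCore M)
  have hAD : A ≤ normalizer (D : Set G) := le_normalizer_inf hAσ (hAg.trans le_normalizer)
  have hcopσ := coprime_A_sigmaCore hG h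
  have hcop : (Nat.card A).Coprime (Nat.card D) :=
    Nat.Coprime.coprime_dvd_right (card_dvd_of_le inf_le_left) hcopσ
  have hsolv : Group.IsSolvable A := solvable_of_ne_top hG (A_ne_top h)
  have hcard : Nat.card D ≠ 1 := fun hc => hD (Subgroup.card_eq_one.mp hc)
  obtain ⟨q, hq, hqD⟩ := Nat.exists_prime_and_dvd hcard
  haveI : Fact q.Prime := ⟨hq⟩
  obtain ⟨Dq, hDq, hADq⟩ := exists_invariant_isSylowIn hAD hcop (Or.inl hsolv) q
  have hDq1 : Dq ≠ ⊥ := ne_bot_of_isSylowIn hDq hqD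
  have hqσ : q ∈ Cfsg.sigma M := mem_sigma_of_dvd hG h.max (hqD.trans (card_dvd_of_le inf_le_left))
  obtain ⟨Q₁, hQ₁, hDQ₁, hAQ₁⟩ := exists_invariant_isSylowIn_ge hAσ hcopσ (Or.inl hsolv) q
    (hDq.le.trans inf_le_left) hDq.isPGroup hADq
  have hDg : Dq ≤ Cfsg.Agent.Lib.Helper30.cj g (Cfsg.sigmaCore M) := by
    have h2 : Cfsg.Agent.Lib.Helper30.cj g⁻¹ Dq ≤ M := by
      rw [cj_le_iff, inv_inv]
      exact hDq.le.trans inf_le_right
    have h3 := Cfsg.Agent.Lib.Helper28.BG12.isPGroup_le_sigmaCore hG h.max hqσ h2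
      (isPGroup_cj g⁻¹ hDq.isPGroup)
    rw [cj_le_iff, inv_inv] at h3
    exact h3
  have hAσg : A ≤ normalizer ((Cfsg.Agent.Lib.Helper30.cj g (Cfsg.sigmaCore M) : Subgroup G) : Set G) := by
    rw [normalizer_cj]
    exact hAg.trans (cj_mono g (Cfsg.Agent.Lib.Helper28.BG12.le_normalizer_sigmaCore M))
  obtain ⟨Q₂, hQ₂, hDQ₂, hAQ₂⟩ := exists_invariant_isSylowIn_ge hAσg
    (by rw [card_cj]; exact hcopσ) (Or.inl hsolv) q hDg hDq.isPGroup hADq
  have hDqtop : Dq ≠ ⊤ := by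
    rintro rfl
    exact h.max.1 (top_le_iff.mp ((hDq.le.trans inf_le_left).trans
      (Cfsg.Agent.Lib.Helper28.BG12.sigmaCore_le M)))
  refine h1 g hg hAg q Q₁ Q₂ (normalizer (Dq : Set G)) hQ₁ hQ₂ hAQ₁ hAQ₂
    (normalizer_ne_top hG hDq1 hDqtop) hADq ?_ ?_
  · intro hb
    exact hDq1 (le_bot_iff.mp (hb ▸ le_inf le_normalizer hDQ₁))
  · intro hb
    exact hDq1 (le_bot_iff.mp (hb ▸ le_inf le_normalizer hDQ₂))

end Cfsg.Agent.Lib.Helper67.BG11
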