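import Cfsg.Agent.Lib.Helper67.BG11_2
import Cfsg.Agent.S0033

set_option autoImplicit false

/-! B-G S1417 ladder, rung 3. -/

namespace Cfsg.Agent.Lib.Helper67.BG11

open Subgroup Cfsg.Agent.Lib.Helper30 Cfsg.Agent.Lib.Helper39.BG11

universe u

variable {G : Type u} [Group G] [Finite G] {M A A₀ : Subgroup G} {p : ℕ} [Fact p.Prime]

/-- a subgroup normalised by an element `z` of order dividing `p` acting without fixed points is
nilpotent. -/
theorem nilpotent_of_fpf_elt (X : Subgroup G) (z : G) (hz : z ∈ normalizer (X : Set G))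
    (hzp : z ^ p = 1) (hfpf : ∀ x ∈ X, z * x = x * z → x = 1) : Group.IsNilpotent X := by
  let φ : MulAut X := X.normalizerMonoidHom ⟨z, hz⟩
  have hφ : ∀ x : X, ((φ x : X) : G) = z * x * z⁻¹ := fun x => rfl
  have hF : MonoidHom.FixedPointFree ((φ : X ≃* X) : X →* X) := by
    intro x hx
    have h1 : z * (x : G) * z⁻¹ = x := by rw [← hφ]; exact congrArg Subtype.val hx
    have h2 : z * (x : G) = x * z := by
      calc z * (x : G) = z * x * z⁻¹ * z := by group
        _ = x * z := by rw [h1]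
    exact Subtype.ext (hfpf x x.2 h2)
  have hpow : φ ^ p = 1 := by
    show (X.normalizerMonoidHom ⟨z, hz⟩) ^ p = 1
    rw [← map_pow]
    have : (⟨z, hz⟩ : normalizer (X : Set G)) ^ p = 1 := Subtype.ext hzp
    rw [this, map_one]
  rcases (Nat.dvd_prime (Fact.out : p.Prime)).mp (orderOf_dvd_of_pow_eq_one hpow) with h1 | h1
  · have h2 : φ = 1 := orderOf_eq_one_iff.mp h1
    have : Subsingleton X := ⟨fun a b => by
      have ha := hF a (by rw [h2]; rfl)
      have hb := hF b (by rw [h2]; rfl)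
      rw [ha, hb]⟩
    infer_instance
  · exact Cfsg.Agent.S0033.result φ hF p Fact.out h1

/-- **Rung 3**. -/
theorem nilpotent_sigma (hG : Cfsg.IsMinSimpleOddOrder G) (h : Hyp M p A A₀) (h2 : TI M A) :
    Group.IsNilpotent (Cfsg.sigmaCore M) := by
  have hp : p.Prime := Fact.out
  have hApg : IsPGroup p A := IsPGroup.of_card h.card
  obtain ⟨P, hP, hAP⟩ := exists_isSylowIn_ge h.le hApg
  have hA1 : A ≠ ⊥ := by
    rintro rfl
    have := h.card
    rw [Subgroup.card_bot] at this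
    have := hp.one_lt
    nlinarith [Nat.pos_of_ne_zero hp.ne_zero]
  have hP1 : P ≠ ⊥ := fun hb => hA1 (le_bot_iff.mp (hb ▸ hAP))
  have hN : ¬ normalizer (P : Set G) ≤ M := fun hN =>
    h.ns (Cfsg.Agent.Lib.Helper68.mem_sigma_of_normalizer_le hP hP1 hN)
  obtain ⟨g, hgN, hgM⟩ := SetLike.not_le_iff_exists.mp hN
  have hcjP : Cfsg.Agent.Lib.Helper30.cj g P = P := cj_eq_of_mem_normalizer hgN
  have hAg : A ≤ Cfsg.Agent.Lib.Helper30.cj g M := by
    calc A ≤ P := hAP
      _ = Cfsg.Agent.Lib.Helper30.cj g P := hcjP.symm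
      _ ≤ Cfsg.Agent.Lib.Helper30.cj g M := cj_mono g hP.le
  have hTI : Cfsg.sigmaCore M ⊓ Cfsg.Agent.Lib.Helper30.cj g M = ⊥ := h2 g hgM hAg
  -- a generator of `A₀`
  have hA₀1 : A₀ ≠ ⊥ := by
    rintro rfl
    have := h.card₀
    rw [Subgroup.card_bot] at this
    exact hp.one_lt.ne this
  obtain ⟨a, ha, ha1⟩ : ∃ a ∈ A₀, a ≠ 1 := by
    obtain ⟨a, ha⟩ := (Subgroup.ne_bot_iff_exists_ne_one).mp hA₀1
    exact ⟨(a : G), a.2, fun h' => ha (Subtype.ext h')⟩
  have hap : a ^ p = 1 := by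
    have := pow_card_eq_one' (x := (⟨a, ha⟩ : A₀))
    rw [h.card₀] at this
    exact congrArg Subtype.val this
  have hoa : orderOf a = p := orderOf_eq_prime hap ha1
  have hzp : zpowers a = A₀ := by
    apply Subgroup.eq_of_le_of_card_ge ((zpowers_le).mpr ha)
    rw [Nat.card_zpowers, hoa, h.card₀]
  set z := g * a * g⁻¹ with hz
  have hzP : z ∈ P := by
    rw [← hcjP]
    exact conj_mem_cj (hAP (h.le₀ ha))
  apply nilpotent_of_fpf_elt (p := p) _ z
    (Cfsg.Agent.Lib.Helper28.BG12.le_normalizer_sigmaCore M (hP.le hzP))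
  · rw [hz, conj_pow, hap]; group
  · intro x hx hzx
    -- `g⁻¹ x g` centralises `a`, hence `A₀`
    have h3 : g⁻¹ * x * g ∈ centralizer (A₀ : Set G) := by
      rw [← hzp, mem_centralizer_iff]
      intro y hy
      obtain ⟨k, rfl⟩ := mem_zpowers_iff.mp hy
      have hc : Commute a (g⁻¹ * x * g) := by
        show a * (g⁻¹ * x * g) = g⁻¹ * x * g * a
        calc a * (g⁻¹ * x * g) = g⁻¹ * ((g * a * g⁻¹) * x) * g := by group
          _ = g⁻¹ * (x * (g * a * g⁻¹)) * g := by rw [← hz, hzx]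
          _ = _ := by group
      exact (hc.zpow_left k).eq
    have h4 : g⁻¹ * x * g ∈ M := h.norm₀ (centralizer_le_normalizer' A₀ h3)
    have h5 : x ∈ Cfsg.sigmaCore M ⊓ Cfsg.Agent.Lib.Helper30.cj g M :=
      mem_inf.mpr ⟨hx, mem_cj.mpr h4⟩
    rw [hTI] at h5
    exact mem_bot.mp h5

end Cfsg.Agent.Lib.Helper67.BG11
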