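import Mathlib
import Cfsg.Agent.Lib.Helper80.BRDefs

set_option autoImplicit false

/-! Rung AR of the ladder BR (arithmetic). -/

namespace Cfsg.Agent.Lib.Helper67.BR

open Cfsg Cfsg.Agent.Lib.Helper80.BR

theorem node_plus {p n z : ℕ} (hp : 2 ≤ p) (hF : ¬ FForm p n) (hz : z ∣ (p - 1) * (1 + n * p))
    (hmod : (z : ℤ) ≡ 1 [ZMOD (p : ℤ)]) : z = 1 ∨ z = 1 + n * p := by
  obtain ⟨M, hM⟩ := hz
  have hpos : 0 < (p - 1) * (1 + n * p) := Nat.mul_pos (by omega) (by omega)
  have hzpos : 0 < z := by
    rcases Nat.eq_zero_or_pos z with h | h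
    · rw [h, zero_mul] at hM; omega
    · exact h
  have hMpos : 0 < M := by
    rcases Nat.eq_zero_or_pos M with h | h
    · rw [h, mul_zero] at hM; omega
    · exact h
  have hPpos : (0 : ℤ) < (p : ℤ) := by exact_mod_cast (by omega : 0 < p)
  have hMZ : ((p : ℤ) - 1) * (1 + n * p) = z * M := by
    have := congrArg (fun t : ℕ => (t : ℤ)) hM
    push_cast [Nat.cast_sub (by omega : 1 ≤ p)] at this
    exact this
  obtain ⟨u, hu⟩ := Int.modEq_iff_dvd.mp hmod.symm
  have hu0 : 0 ≤ u := by
    by_contra h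
    push Not at h
    have h1 : (1 : ℤ) ≤ z := by exact_mod_cast hzpos
    nlinarith
  have hzu : (z : ℤ) = u * p + 1 := by linarith
  -- M + 1 is a multiple of p
  have hM1 : (M : ℤ) + 1 = p * (1 + n * p - n - u * M) := by
    rw [hzu] at hMZ
    linear_combination (-1 : ℤ) * hMZ
  set c : ℤ := 1 + n * p - n - u * M with hc
  have hc1 : 1 ≤ c := by
    by_contra h
    push Not at h
    have h1 : (1 : ℤ) ≤ M := by exact_mod_cast hMpos
    have h2 : c ≤ 0 := by omega
    nlinarith
  obtain ⟨k, hk⟩ : ∃ k : ℤ, c = k + 1 := ⟨c - 1, by ring⟩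
  have hk0 : 0 ≤ k := by omega
  have hMk : (M : ℤ) = k * p + p - 1 := by rw [hk] at hM1; linarith
  have eq1 : (n : ℤ) * p - n = u * k * p + u * p - u + k := by
    have h1 : (p : ℤ) * (((n : ℤ) * p - n) - (u * k * p + u * p - u + k)) = 0 := by
      rw [hzu, hMk] at hMZ
      linear_combination hMZ
    rcases mul_eq_zero.mp h1 with h2 | h2
    · omega
    · linarith
  rcases eq_or_lt_of_le hu0 with hu' | hu'
  · left
    rw [← hu', zero_mul, zero_add] at hzu
    exact_mod_cast hzu
  rcases eq_or_lt_of_le hk0 with hk' | hk'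
  · right
    rw [← hk'] at eq1
    have h1 : ((n : ℤ) - u) * ((p : ℤ) - 1) = 0 := by linear_combination eq1
    have h2 : (p : ℤ) - 1 ≠ 0 := by
      have : (2 : ℤ) ≤ p := by exact_mod_cast hp
      omega
    rcases mul_eq_zero.mp h1 with h3 | h3
    · have h4 : (z : ℤ) = 1 + n * p := by
        rw [hzu]
        have : u = n := by linarith
        rw [this]; ring
      exact_mod_cast h4
    · exact absurd h3 h2
  · exfalso
    apply hF
    set h : ℤ := n - u - u * k with hh
    have eqh : h * p = n - u + k := by rw [hh]; linear_combination eq1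
    have hnu : (0 : ℤ) < n - u := by
      have h1 : ((n : ℤ) - u) * ((p : ℤ) - 1) = k * (u * p + 1) := by linear_combination eq1
      have h2 : (0 : ℤ) < k * (u * p + 1) := by positivity
      have h3 : (0 : ℤ) < (p : ℤ) - 1 := by
        have : (2 : ℤ) ≤ p := by exact_mod_cast hp
        omega
      rw [← h1] at h2
      exact (pos_iff_pos_of_mul_pos h2).mpr h3
    have hhpos : 0 < h := by
      have h1 : 0 < h * p := by rw [eqh]; linarith
      exact (pos_iff_pos_of_mul_pos h1).mpr hPpos
    have hfin : (n : ℤ) * (u + 1) = h * u * p + u ^ 2 + u + h := by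
      linear_combination (-u) * eqh - hh
    clear_value h
    lift h to ℕ using hhpos.le
    lift u to ℕ using hu0
    refine ⟨h, u, by exact_mod_cast hhpos, by exact_mod_cast hu', ?_⟩
    exact_mod_cast hfin

theorem node_minus {p n z : ℕ} (hp : 2 ≤ p) (hF : ¬ FForm p n) (hz : z ∣ (p - 1) * (1 + n * p))
    (hmod : (z : ℤ) ≡ -1 [ZMOD (p : ℤ)]) : z = p - 1 ∨ z = (p - 1) * (1 + n * p) := by
  obtain ⟨M, hM⟩ := hz
  have hpos : 0 < (p - 1) * (1 + n * p) := Nat.mul_pos (by omega) (by omega)
  have hzpos : 0 < z := by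
    rcases Nat.eq_zero_or_pos z with h | h
    · rw [h, zero_mul] at hM; omega
    · exact h
  have hMpos : 0 < M := by
    rcases Nat.eq_zero_or_pos M with h | h
    · rw [h, mul_zero] at hM; omega
    · exact h
  have hP2 : (2 : ℤ) ≤ (p : ℤ) := by exact_mod_cast hp
  have hPpos : (0 : ℤ) < (p : ℤ) := by omega
  have hMZ : ((p : ℤ) - 1) * (1 + n * p) = z * M := by
    have := congrArg (fun t : ℕ => (t : ℤ)) hM
    push_cast [Nat.cast_sub (by omega : 1 ≤ p)] at this
    exact this
  obtain ⟨u, hu⟩ := Int.modEq_iff_dvd.mp hmod.symm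
  have hzu : (z : ℤ) = u * p - 1 := by linarith
  have hu1 : 1 ≤ u := by
    by_contra h
    push Not at h
    have h1 : (1 : ℤ) ≤ z := by exact_mod_cast hzpos
    have h2 : u ≤ 0 := by omega
    nlinarith
  -- M - 1 is a multiple of p
  have hM1 : (M : ℤ) - 1 = p * (u * M - 1 - n * p + n) := by
    rw [hzu] at hMZ
    linear_combination hMZ
  set k : ℤ := u * M - 1 - n * p + n with hk
  have hk0 : 0 ≤ k := by
    by_contra h
    push Not at h
    have h1 : (1 : ℤ) ≤ M := by exact_mod_cast hMpos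
    nlinarith
  have hMk : (M : ℤ) = k * p + 1 := by linarith
  have eq1 : ((n : ℤ) - u * k) * p = n + u - k - 1 := by
    have h1 : (p : ℤ) * ((((n : ℤ) - u * k) * p) - (n + u - k - 1)) = 0 := by
      rw [hzu, hMk] at hMZ
      linear_combination hMZ
    rcases mul_eq_zero.mp h1 with h2 | h2
    · omega
    · linarith
  rcases eq_or_lt_of_le hu1 with hu' | hu'
  · left
    rw [← hu', one_mul] at hzu
    have : (z : ℤ) = ((p - 1 : ℕ) : ℤ) := by
      rw [Nat.cast_sub (by omega : 1 ≤ p)]
      exact_mod_cast hzu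
    exact_mod_cast this
  rcases eq_or_lt_of_le hk0 with hk' | hk'
  · right
    have hM1' : M = 1 := by
      rw [← hk', zero_mul, zero_add] at hMk
      exact_mod_cast hMk
    rw [hM1', mul_one] at hM
    exact hM.symm
  · exfalso
    apply hF
    set j : ℤ := n - u * k with hj
    have hn0 : (0 : ℤ) ≤ n := by positivity
    have hjpos : 0 < j := by
      by_contra h
      push Not at h
      -- D = -j ≥ 0, k = n + u - 1 + D p
      have hkD : k = n + u - 1 - j * p := by linarith
      have h2 : -j = (u - 1) * n + u * (u - 1) + u * (-j) * p := by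
        have : j = n - u * (n + u - 1 - j * p) := by rw [← hkD]
        linear_combination (-1 : ℤ) * this
      have h3 : (0 : ℤ) ≤ -j := by omega
      have h4 : (-j) * 4 ≤ u * (-j) * p := by
        have : (4 : ℤ) ≤ u * p := by nlinarith
        nlinarith
      have h5 : (0 : ℤ) ≤ (u - 1) * n := by
        apply mul_nonneg <;> omega
      have h6 : (2 : ℤ) ≤ u * (u - 1) := by nlinarith
      omega
    have hfin : (n : ℤ) * (k + 1) = j * k * p + k ^ 2 + k + j := by
      linear_combination (-k) * eq1 - hj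
    clear_value j
    lift j to ℕ using hjpos.le
    clear_value k
    lift k to ℕ using hk0
    refine ⟨j, k, by exact_mod_cast hjpos, by exact_mod_cast hk', ?_⟩
    exact_mod_cast hfin

theorem fform_mul {p n n' r : ℕ} (hp : 2 ≤ p) (h : FForm p n') (hr : 1 + n * p = (1 + n' * p) * r) :
    FForm p n := by
  obtain ⟨h, u, hh, hu, heq⟩ := h
  have hPpos : (0 : ℤ) < (p : ℤ) := by exact_mod_cast (by omega : 0 < p)
  have hrpos : 0 < r := by
    rcases Nat.eq_zero_or_pos r with h0 | h0
    · rw [h0, mul_zero] at hr; omega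
    · exact h0
  have hrZ : (1 : ℤ) + n * p = (1 + n' * p) * r := by exact_mod_cast hr
  have heqZ : (n' : ℤ) * (u + 1) = h * u * p + u ^ 2 + u + h := by exact_mod_cast heq
  have h1 : (r : ℤ) - 1 = p * (n - n' * r) := by linear_combination (-1 : ℤ) * hrZ
  set r' : ℤ := n - n' * r with hr'
  have hr0 : 0 ≤ r' := by
    by_contra hc
    push Not at hc
    have : (1 : ℤ) ≤ r := by exact_mod_cast hrpos
    nlinarith
  have hn : (n : ℤ) = n' + r' * (1 + n' * p) := by
    have hrr : (r : ℤ) = 1 + p * r' := by linarith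
    linear_combination (-1 : ℤ) * hr' + (n' : ℤ) * hrr
  clear_value r'
  lift r' to ℕ using hr0
  refine ⟨h + r' * (h * p + u + 1), u, by positivity, hu, ?_⟩
  have : (n : ℤ) * (u + 1) = (h + r' * (h * p + u + 1)) * u * p + u ^ 2 + u
      + (h + r' * (h * p + u + 1)) := by
    rw [hn]
    linear_combination (1 + (r' : ℤ) * p) * heqZ
  exact_mod_cast this

theorem fform_bound {p n : ℕ} (h : FForm p n) : p + 3 ≤ 2 * n := by
  obtain ⟨h, u, hh, hu, heq⟩ := h
  by_contra hc
  push Not at hc
  have h1 : 2 * n + 1 ≤ p + 3 := hc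
  have h2 : u * p + u ^ 2 + u + 1 ≤ n * (u + 1) := by
    rw [heq]
    have : u * p ≤ h * u * p := by
      have : 1 * (u * p) ≤ h * (u * p) := Nat.mul_le_mul_right _ hh
      calc u * p = 1 * (u * p) := (one_mul _).symm
        _ ≤ h * (u * p) := this
        _ = h * u * p := by ring
    omega
  have h3 : (2 * n + 1) * (u + 1) ≤ (p + 3) * (u + 1) := Nat.mul_le_mul_right _ h1
  obtain ⟨v, rfl⟩ : ∃ v, u = v + 1 := ⟨u - 1, by omega⟩
  nlinarith

end Cfsg.Agent.Lib.Helper67.BR
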