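import Mathlib
import Cfsg.Agent.Lib.Helper99.SPU.Defs
import Cfsg.Agent.Lib.Helper99.PGB.Defs
import Cfsg.Agent.Lib.Helper11.SP8JORD

set_option autoImplicit false

universe u

namespace Cfsg.Agent.Lib.Helper67.SPU

open Module LinearMap QuadraticMap Cfsg.Agent.Lib.Helper48 Cfsg.Agent.Lib.Helper17
  Cfsg.Agent.Lib.Helper99.SP8 Cfsg.Agent.Lib.Helper99.PGB Cfsg.Agent.Lib.Helper99.SPU

theorem Nm_add {F V : Type*} [Field F] [AddCommGroup V] [Module F V] (T : End F V) (n m : ℕ) :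
    Nm T (n + m) = Nm T n + T ^ n * Nm T m := by
  unfold Nm
  rw [Finset.sum_range_add, Finset.mul_sum]
  congr 1
  exact Finset.sum_congr rfl (fun i _ => pow_add T n i)

/-- NMU1 -/
theorem Nm_two_pow {F V : Type*} [Field F] [CharP F 2] [AddCommGroup V] [Module F V]
    (T : End F V) (b : ℕ) : Nm T (2 ^ b) = (T - 1) ^ (2 ^ b - 1) := by
  induction b with
  | zero => simp [Nm]
  | succ b ih =>
    have h2 : (2 : End F V) = 0 := Cfsg.Agent.Lib.Helper11.SP8.jord_two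
    have h1 : 1 ≤ 2 ^ b := Nat.one_le_two_pow
    rw [pow_succ, mul_two, Nm_add, ih, show 2 ^ b + 2 ^ b - 1 = 2 ^ b + (2 ^ b - 1) by omega, pow_add,
      Cfsg.Agent.Lib.Helper11.SP8.jord_pow]
    have : (T - 1) ^ (2 ^ b - 1) + T ^ 2 ^ b * (T - 1) ^ (2 ^ b - 1) =
        (T ^ 2 ^ b - 1) * (T - 1) ^ (2 ^ b - 1) + 2 * (T - 1) ^ (2 ^ b - 1) := by
      noncomm_ring
    rw [this, h2, zero_mul, add_zero]

/-- NMU2 -/
theorem Nm_mul {F V : Type*} [Field F] [AddCommGroup V] [Module F V] (T : End F V) {K : ℕ}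
    (hT : T ^ K = 1) (r : ℕ) : Nm T (K * r) = (r : F) • Nm T K := by
  induction r with
  | zero => simp [Nm]
  | succ r ih =>
    rw [mul_add, mul_one, Nm_add, ih, pow_mul, hT, one_pow, one_mul, Nat.cast_add, Nat.cast_one,
      add_smul, one_smul]

theorem prodMap_pow_apply {F V₁ V₂ : Type*} [Field F] [AddCommGroup V₁] [Module F V₁]
    [AddCommGroup V₂] [Module F V₂] (T₁ : End F V₁) (T₂ : End F V₂) (i : ℕ) (x : V₁ × V₂) :
    ((LinearMap.prodMap T₁ T₂ : End F (V₁ × V₂)) ^ i) x = ((T₁ ^ i) x.1, (T₂ ^ i) x.2) := by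
  induction i generalizing x with
  | zero => simp
  | succ i ih =>
    rw [pow_succ, Module.End.mul_apply, ih, pow_succ, pow_succ, Module.End.mul_apply,
      Module.End.mul_apply]
    rfl

/-- NMU3 -/
theorem Nm_prodMap {F V₁ V₂ : Type*} [Field F] [AddCommGroup V₁] [Module F V₁] [AddCommGroup V₂]
    [Module F V₂] (T₁ : End F V₁) (T₂ : End F V₂) (K : ℕ) (x : V₁ × V₂) :
    Nm (LinearMap.prodMap T₁ T₂ : End F (V₁ × V₂)) K x = (Nm T₁ K x.1, Nm T₂ K x.2) := by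
  unfold Nm
  rw [LinearMap.sum_apply, LinearMap.sum_apply, LinearMap.sum_apply]
  simp only [prodMap_pow_apply]
  rw [Prod.ext_iff]
  constructor
  · rw [Prod.fst_sum]
  · rw [Prod.snd_sum]

/-- NMU4 -/
theorem finrank_ker_prodMap {F V₁ V₂ : Type*} [Field F] [AddCommGroup V₁] [Module F V₁]
    [AddCommGroup V₂] [Module F V₂] [FiniteDimensional F V₁] [FiniteDimensional F V₂]
    (T₁ : End F V₁) (T₂ : End F V₂) :
    finrank F (ker ((LinearMap.prodMap T₁ T₂ : End F (V₁ × V₂)) - 1)) =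
      finrank F (ker (T₁ - 1)) + finrank F (ker (T₂ - 1)) := by
  have h : (LinearMap.prodMap T₁ T₂ : End F (V₁ × V₂)) - 1 =
      LinearMap.prodMap (T₁ - 1) (T₂ - 1) := by
    apply LinearMap.ext
    rintro ⟨x, y⟩
    rfl
  rw [h, LinearMap.ker_prodMap, ← finrank_prod]
  exact LinearEquiv.finrank_eq
    { toFun := fun x => (⟨x.1.1, x.2.1⟩, ⟨x.1.2, x.2.2⟩)
      map_add' := fun _ _ => rfl
      map_smul' := fun _ _ => rfl
      invFun := fun y => ⟨(y.1.1, y.2.1), ⟨y.1.2, y.2.2⟩⟩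
      left_inv := fun _ => rfl
      right_inv := fun _ => rfl }

end Cfsg.Agent.Lib.Helper67.SPU
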