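import Mathlib
import Cfsg.Agent.Lib.Helper99.SPU.Defs
import Cfsg.Agent.Lib.Helper99.PGB.Defs

set_option autoImplicit false

universe u

namespace Cfsg.Agent.Lib.Helper67.SPU

open Module LinearMap QuadraticMap Cfsg.Agent.Lib.Helper48 Cfsg.Agent.Lib.Helper17
  Cfsg.Agent.Lib.Helper99.SP8 Cfsg.Agent.Lib.Helper99.PGB Cfsg.Agent.Lib.Helper99.SPU

theorem rk_restrict_pow_apply {F Z : Type*} [Field F] [AddCommGroup Z] [Module F Z] (N : End F Z)
    (U : Submodule F Z) (hinv : ∀ x ∈ U, N x ∈ U) (j : ℕ) (y : U) :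
    ((((N.restrict hinv : End F U) ^ j) y : U) : Z) = (N ^ j) y := by
  induction j generalizing y with
  | zero => simp
  | succ j ih =>
    rw [pow_succ, Module.End.mul_apply, ih, pow_succ, Module.End.mul_apply]
    rfl

/-- RK -/
theorem le_finrank_range {F Z : Type*} [Field F] [AddCommGroup Z] [Module F Z]
    [FiniteDimensional F Z] (N : End F Z) (hnil : IsNilpotent N) {k : ℕ} (hk : N ^ k ≠ 0) :
    k ≤ finrank F (range N) := by
  obtain ⟨n, hn⟩ := hnil
  by_contra hlt
  push Not at hlt
  apply hk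
  have hinv : ∀ x ∈ range N, N x ∈ range N := fun x _ => ⟨x, rfl⟩
  have h1 : (N.restrict hinv : End F (range N)) ^ n = 0 := by
    apply LinearMap.ext
    intro y
    apply Subtype.ext
    rw [rk_restrict_pow_apply, hn]
    rfl
  have h2 : N ^ (finrank F (range N) + 1) = 0 := by
    apply LinearMap.ext
    intro v
    have h3 : (⟨N v, ⟨v, rfl⟩⟩ : range N) ∈
        ker ((N.restrict hinv : End F (range N)) ^ finrank F (range N)) := by
      apply Module.End.ker_pow_le_ker_pow_finrank _ n
      rw [h1]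
      simp
    have h4 := congrArg Subtype.val (mem_ker.1 h3)
    rw [rk_restrict_pow_apply] at h4
    rw [pow_succ, Module.End.mul_apply]
    exact h4
  exact pow_eq_zero_of_le hlt h2

end Cfsg.Agent.Lib.Helper67.SPU
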