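import Mathlib
import Cfsg.Agent.Lib.Helper79.SelfDualSplit

/-!
# Ladder SP8, rung MASCH: Maschke's theorem for one operator of finite order prime to the characteristic
-/

set_option autoImplicit false

namespace Cfsg.Agent.Lib.Helper67.SP8

open Module LinearMap

theorem masch_pow_mem {F V : Type*} [Field F] [AddCommGroup V] [Module F V] (s : End F V)
    (N : Submodule F V) (hN : ∀ y ∈ N, s y ∈ N) (j : ℕ) : ∀ y ∈ N, (s ^ j) y ∈ N := by
  induction j with
  | zero => intro y hy; simpa using hy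
  | succ j ih =>
    intro y hy
    rw [pow_succ', Module.End.mul_apply]
    exact hN _ (ih y hy)

/-- MASCH -/
theorem maschke_op {F V : Type*} [Field F] [AddCommGroup V] [Module F V] (s : End F V) {m : ℕ}
    (hmF : (m : F) ≠ 0) (hsm : s ^ m = 1) (N : Submodule F V) (hN : ∀ y ∈ N, s y ∈ N) :
    ∃ N' : Submodule F V, (∀ y ∈ N', s y ∈ N') ∧ IsCompl N N' := by
  have hm : m ≠ 0 := by rintro rfl; simp at hmF
  obtain ⟨k, rfl⟩ : ∃ k, m = k + 1 := Nat.exists_eq_succ_of_ne_zero hm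
  let u : (End F V)ˣ := ⟨s, s ^ k, by rw [← pow_succ', hsm], by rw [← pow_succ, hsm]⟩
  have hu : u ^ (k + 1) = 1 := Units.ext (by simpa using hsm)
  have hfin : IsOfFinOrder u := isOfFinOrder_iff_pow_eq_one.mpr ⟨k + 1, Nat.succ_pos _, hu⟩
  haveI : Finite (Subgroup.zpowers u) := by
    have := (finite_zpowers (a := u)).mpr hfin
    exact this.to_subtype
  have hcard : Nat.card (Subgroup.zpowers u) = orderOf u := Nat.card_zpowers u
  have hdvd : orderOf u ∣ k + 1 := orderOf_dvd_of_pow_eq_one hu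
  have hG : (Nat.card (Subgroup.zpowers u) : F) ≠ 0 := by
    rw [hcard]
    obtain ⟨c, hc⟩ := hdvd
    intro h0
    apply hmF
    rw [hc]
    push_cast
    rw [h0, zero_mul]
  let ρ : Subgroup.zpowers u →* End F V := (Units.coeHom _).comp (Subgroup.zpowers u).subtype
  have hρ : ∀ g, ∀ y ∈ N, ρ g y ∈ N := by
    rintro ⟨g, hg⟩ y hy
    obtain ⟨j, rfl⟩ := (hfin.mem_powers_iff_mem_zpowers).mpr hg
    show ((u ^ j : (End F V)ˣ) : End F V) y ∈ N
    rw [Units.val_pow_eq_pow_val]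
    exact masch_pow_mem s N hN j y hy
  obtain ⟨N', h1, h2⟩ := Cfsg.Agent.Lib.Helper79.SDS.maschke hG ρ N hρ
  exact ⟨N', fun y hy => h1 ⟨u, Subgroup.mem_zpowers u⟩ y hy, h2⟩

end Cfsg.Agent.Lib.Helper67.SP8
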