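import Mathlib

/-!
# Ladder SP8, rung IRR: an irreducible operator over a finite field
-/

set_option autoImplicit false

namespace Cfsg.Agent.Lib.Helper67.SP8

open Module LinearMap Polynomial

section gen

variable {F V : Type*} [Field F] [AddCommGroup V] [Module F V]

/-- an operator commuting with an irreducible one is zero or injective -/
theorem irr_ker (s : End F V)
    (hirr : ∀ W : Submodule F V, (∀ w ∈ W, s w ∈ W) → W = ⊥ ∨ W = ⊤)
    (h : End F V) (hc : Commute h s) : h = 0 ∨ Function.Injective h := by
  have h1 := hirr (LinearMap.ker h) (fun w hw => by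
    rw [LinearMap.mem_ker] at *
    have h2 : h (s w) = s (h w) := by
      have := congrArg (fun f : End F V => f w) hc.eq
      simpa using this
    rw [h2, hw, map_zero])
  rcases h1 with h0 | h1
  · right; exact LinearMap.ker_eq_bot.mp h0
  · left; exact LinearMap.ker_eq_top.mp h1

/-- `F[T] v` -/
noncomputable def orb (T : End F V) (v : V) : Submodule F V :=
  LinearMap.range ((LinearMap.applyₗ v).comp (aeval T : F[X] →ₐ[F] End F V).toLinearMap)

theorem mem_orb {T : End F V} {v x : V} : x ∈ orb T v ↔ ∃ p : F[X], aeval T p v = x := by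
  unfold orb
  rw [LinearMap.mem_range]
  rfl

theorem aeval_mem_orb (T : End F V) (v : V) (p : F[X]) : aeval T p v ∈ orb T v :=
  mem_orb.mpr ⟨p, rfl⟩

theorem self_mem_orb (T : End F V) (v : V) : v ∈ orb T v :=
  mem_orb.mpr ⟨1, by simp⟩

theorem orb_aeval_mem (T : End F V) (v : V) (p : F[X]) {x : V} (hx : x ∈ orb T v) :
    aeval T p x ∈ orb T v := by
  obtain ⟨r, rfl⟩ := mem_orb.mp hx
  refine mem_orb.mpr ⟨p * r, ?_⟩
  rw [map_mul, Module.End.mul_apply]

theorem orb_map_mem (T : End F V) (v : V) {x : V} (hx : x ∈ orb T v) : T x ∈ orb T v := by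
  have := orb_aeval_mem T v X hx
  rwa [aeval_X] at this

theorem commute_aeval {T s : End F V} (hc : Commute T s) (p : F[X]) : Commute (aeval T p) s := by
  induction p using Polynomial.induction_on' with
  | add p r hp hr => rw [map_add]; exact hp.add_left hr
  | monomial n a =>
    rw [aeval_monomial]
    exact (Algebra.commute_algebraMap_left a s).mul_left (hc.pow_left n)

end gen

variable {F V : Type*} [Field F] [Fintype F] [AddCommGroup V] [Module F V] [FiniteDimensional F V]

/-- `F[T]` is a finite field with `|F[T] v|` elements -/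
theorem irr_frob (s : End F V)
    (hirr : ∀ W : Submodule F V, (∀ w ∈ W, s w ∈ W) → W = ⊥ ∨ W = ⊤)
    (T : End F V) (hc : Commute T s) (v : V) (hv : v ≠ 0) :
    T ^ (Fintype.card F ^ finrank F (orb T v)) = T := by
  classical
  have hcp : ∀ p : F[X], Commute (aeval T p) s := commute_aeval hc
  have hz : ∀ p : F[X], aeval T p v = 0 → aeval T p = 0 := by
    intro p hp
    rcases irr_ker s hirr _ (hcp p) with h | h
    · exact h
    · exact absurd (h (hp.trans (map_zero _).symm)) hv
  let f : F[X] →+* End F V := (aeval T : F[X] →ₐ[F] End F V).toRingHom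
  have hf : ∀ p, f p = aeval T p := fun p => rfl
  haveI : Nontrivial V := ⟨v, 0, hv⟩
  haveI hprime : (RingHom.ker f).IsPrime := by
    refine ⟨?_, ?_⟩
    · intro htop
      have : (1 : F[X]) ∈ RingHom.ker f := by rw [htop]; trivial
      rw [RingHom.mem_ker, map_one] at this
      exact one_ne_zero this
    · intro p r hpr
      rw [RingHom.mem_ker, map_mul, hf, hf] at hpr
      rw [RingHom.mem_ker, RingHom.mem_ker, hf, hf]
      rcases irr_ker s hirr _ (hcp p) with h | h
      · left; exact h
      · right
        ext w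
        apply h
        have := congrArg (fun g : End F V => g w) hpr
        simpa using this
  let ι : (F[X] ⧸ RingHom.ker f) →+* End F V := RingHom.kerLift f
  have hι : Function.Injective ι := RingHom.kerLift_injective f
  have hιmk : ∀ p, ι (Ideal.Quotient.mk _ p) = aeval T p := fun p => RingHom.kerLift_mk f p
  have key : ∀ k, ι k v = 0 → k = 0 := by
    intro k hk
    obtain ⟨p, rfl⟩ := Ideal.Quotient.mk_surjective k
    rw [hιmk] at hk
    apply hι
    rw [hιmk, map_zero]
    exact hz p hk
  let g : (F[X] ⧸ RingHom.ker f) → orb T v := fun k => ⟨ι k v, by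
    obtain ⟨p, rfl⟩ := Ideal.Quotient.mk_surjective k
    rw [hιmk]
    exact aeval_mem_orb T v p⟩
  have gbij : Function.Bijective g := by
    constructor
    · intro k k' hkk
      have h1 : ι k v = ι k' v := congrArg Subtype.val hkk
      have h2 : ι (k - k') v = 0 := by
        rw [map_sub, LinearMap.sub_apply, h1, sub_self]
      exact sub_eq_zero.mp (key _ h2)
    · rintro ⟨x, hx⟩
      obtain ⟨p, rfl⟩ := mem_orb.mp hx
      refine ⟨Ideal.Quotient.mk _ p, ?_⟩
      apply Subtype.ext
      show ι _ v = _
      rw [hιmk]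
  haveI : Finite V := Module.finite_of_finite F
  haveI : Finite (F[X] ⧸ RingHom.ker f) := Finite.of_injective g gbij.1
  haveI : Fintype (F[X] ⧸ RingHom.ker f) := Fintype.ofFinite _
  have hcard : Fintype.card (F[X] ⧸ RingHom.ker f) = Fintype.card F ^ finrank F (orb T v) := by
    rw [← Nat.card_eq_fintype_card, Nat.card_congr (Equiv.ofBijective g gbij),
      ← Nat.card_eq_fintype_card, ← Module.natCard_eq_pow_finrank]
  have h1 : (Ideal.Quotient.mk (RingHom.ker f) X) ^ Fintype.card (F[X] ⧸ RingHom.ker f)
      = Ideal.Quotient.mk (RingHom.ker f) X := by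
    letI : Field (F[X] ⧸ RingHom.ker f) := Fintype.fieldOfDomain _
    exact FiniteField.pow_card _
  have h2 := congrArg ι h1
  rw [map_pow, hιmk, aeval_X, hcard] at h2
  exact h2

/-- IRR -/
theorem irr_pow {F V : Type*} [Field F] [Fintype F] [AddCommGroup V] [Module F V]
    [FiniteDimensional F V] (s : End F V) (hinj : Function.Injective s)
    (hirr : ∀ W : Submodule F V, (∀ w ∈ W, s w ∈ W) → W = ⊥ ∨ W = ⊤) :
    s ^ (Fintype.card F ^ finrank F V - 1) = 1 := by
  by_cases hV : ∃ v : V, v ≠ 0
  · obtain ⟨v, hv⟩ := hV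
    have h1 := irr_frob s hirr s (Commute.refl s) v hv
    have h2 : orb s v = ⊤ := by
      rcases hirr (orb s v) (fun w hw => orb_map_mem s v hw) with h | h
      · exfalso
        have := self_mem_orb s v
        rw [h, Submodule.mem_bot] at this
        exact hv this
      · exact h
    rw [h2, finrank_top] at h1
    have hpos : 0 < Fintype.card F ^ finrank F V := pow_pos Fintype.card_pos _
    obtain ⟨k, hk⟩ : ∃ k, Fintype.card F ^ finrank F V = k + 1 := ⟨_, (Nat.succ_pred_eq_of_pos hpos).symm⟩
    rw [hk] at h1 ⊢
    rw [Nat.add_sub_cancel]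
    ext w
    apply hinj
    have := congrArg (fun g : End F V => g w) h1
    rw [pow_succ'] at this
    simpa using this
  · push Not at hV
    ext w
    rw [hV w, map_zero, map_zero]

end Cfsg.Agent.Lib.Helper67.SP8
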