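import Mathlib
import Cfsg.Agent.Lib.Helper48.Cayley
import Cfsg.Agent.Lib.Helper67.SP8IRR

/-!
# Ladder SP8, rung DI: an irreducible isometry of an alternating space of dimension `2e`
has order dividing `q^e - 1` or `q^e + 1`
-/

set_option autoImplicit false

namespace Cfsg.Agent.Lib.Helper67.SP8

open Module LinearMap Polynomial Cfsg.Agent.Lib.Helper48

section alt

variable {F V : Type*} [Field F] [AddCommGroup V] [Module F V] {B : LinearMap.BilinForm F V}

theorem alt_swap (halt : ∀ v, B v v = 0) (x y : V) : B x y = - B y x := by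
  have h := halt (x + y)
  simp only [map_add, LinearMap.add_apply, halt, zero_add, add_zero] at h
  exact eq_neg_of_add_eq_zero_right h

theorem alt_refl (halt : ∀ v, B v v = 0) : B.IsRefl := by
  intro x y h
  rw [alt_swap halt, h, neg_zero]

theorem alt_nondeg (halt : ∀ v, B v v = 0) (hnd : ∀ x, (∀ y, B x y = 0) → x = 0) :
    B.Nondegenerate := by
  refine ⟨hnd, fun y hy => hnd y fun x => ?_⟩
  rw [alt_swap halt, hy, neg_zero]

theorem alt_mem_orth {N : Submodule F V} {x : V} : x ∈ B.orthogonal N ↔ ∀ n ∈ N, B n x = 0 :=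
  LinearMap.BilinForm.mem_orthogonal_iff

theorem alt_iso_dim [FiniteDimensional F V] (halt : ∀ v, B v v = 0)
    (hnd : ∀ x, (∀ y, B x y = 0) → x = 0) (U : Submodule F V)
    (hU : ∀ x ∈ U, ∀ y ∈ U, B x y = 0) : 2 * finrank F U ≤ finrank F V := by
  have h1 : U ≤ B.orthogonal U := fun x hx => alt_mem_orth.mpr fun n hn => hU n hn x hx
  have h2 := Submodule.finrank_mono h1
  rw [LinearMap.BilinForm.finrank_orthogonal (alt_nondeg halt hnd)] at h2
  have h3 := Submodule.finrank_le U
  omega

end alt

/-- DI -/
theorem irr_dich {F V : Type*} [Field F] [Fintype F] [AddCommGroup V] [Module F V]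
    [FiniteDimensional F V] (B : LinearMap.BilinForm F V) (halt : ∀ v, B v v = 0)
    (hnd : ∀ x, (∀ y, B x y = 0) → x = 0) (s : End F V) (hs : IsoB B s) {m : ℕ} (hm : 0 < m)
    (hsm : s ^ m = 1) (hirr : ∀ W : Submodule F V, (∀ w ∈ W, s w ∈ W) → W = ⊥ ∨ W = ⊤)
    {e : ℕ} (hdim : finrank F V = 2 * e) :
    s ^ (Fintype.card F ^ e - 1) = 1 ∨ s ^ (Fintype.card F ^ e + 1) = 1 := by
  by_cases hV : ∃ v : V, v ≠ 0
  swap
  · push Not at hV
    left
    ext w
    rw [hV w, map_zero, map_zero]
  obtain ⟨v, hv⟩ := hV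
  haveI : Nontrivial V := ⟨v, 0, hv⟩
  obtain ⟨k, rfl⟩ : ∃ k, m = k + 1 := ⟨m - 1, by omega⟩
  set s' : End F V := s ^ k with hs'
  have hss' : s * s' = 1 := by rw [hs', ← pow_succ', hsm]
  have hs's : s' * s = 1 := by rw [hs', ← pow_succ, hsm]
  have hcs : Commute s' s := by rw [hs']; exact (Commute.refl s).pow_left k
  have a1 : ∀ y, s (s' y) = y := fun y => by
    have := congrArg (fun g : End F V => g y) hss'
    simpa using this
  have a2 : ∀ y, s' (s y) = y := fun y => by
    have := congrArg (fun g : End F V => g y) hs's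
    simpa using this
  have hadj : ∀ x y, B (s x) y = B x (s' y) := fun x y => by
    conv_lhs => rw [← a1 y]
    exact hs x (s' y)
  have hadj' : ∀ x y, B (s' x) y = B x (s y) := fun x y => by
    rw [← hs (s' x) y, a1]
  set S : End F V := s + s' with hS
  have hSc : Commute S s := by rw [hS]; exact (Commute.refl s).add_left hcs
  have hSadj : ∀ x y, B (S x) y = B x (S y) := fun x y => by
    rw [hS]
    simp only [LinearMap.add_apply, map_add]
    rw [hadj, hadj', add_comm]
  have hSn : ∀ (n : ℕ) x y, B ((S ^ n) x) y = B x ((S ^ n) y) := by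
    intro n
    induction n with
    | zero => intro x y; simp
    | succ n ih =>
      intro x y
      rw [pow_succ', Module.End.mul_apply, hSadj, ih, ← Module.End.mul_apply, ← pow_succ, pow_succ']
  have hself : ∀ (p : F[X]) x y, B (aeval S p x) y = B x (aeval S p y) := by
    intro p
    induction p using Polynomial.induction_on' with
    | add p r hp hr =>
      intro x y
      simp only [map_add, LinearMap.add_apply, hp, hr]
    | monomial n a =>
      intro x y
      rw [aeval_monomial]
      simp only [Module.End.mul_apply, Module.algebraMap_end_apply, map_smul, LinearMap.smul_apply, hSn]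
  have hcp : ∀ p : F[X], Commute (aeval S p) s := commute_aeval hSc
  have hcp' : ∀ (p : F[X]) w, aeval S p (s w) = s (aeval S p w) := fun p w => by
    have := congrArg (fun g : End F V => g w) (hcp p).eq
    simpa using this
  have hiso : ∀ (p : F[X]) w, B (aeval S p w) w = 0 := by
    intro p w
    conv_lhs => rw [← Polynomial.X_mul_divX_add p]
    simp only [map_add, map_mul, aeval_X, aeval_C, LinearMap.add_apply, Module.End.mul_apply,
      Module.algebraMap_end_apply, map_smul, LinearMap.smul_apply, halt, smul_zero, add_zero]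
    rw [hS]
    simp only [LinearMap.add_apply, map_add]
    rw [hadj' _ w, hself, hcp', alt_swap halt w, add_neg_cancel]
  have hUiso : ∀ x ∈ orb S v, ∀ y ∈ orb S v, B x y = 0 := by
    intro x hx y hy
    obtain ⟨p, rfl⟩ := mem_orb.mp hx
    obtain ⟨r, rfl⟩ := mem_orb.mp hy
    rw [← hself, ← Module.End.mul_apply, ← map_mul]
    exact hiso _ v
  have hd1 : 2 * finrank F (orb S v) ≤ finrank F V := alt_iso_dim halt hnd _ hUiso
  have hinv : ∀ w ∈ orb S v ⊔ (orb S v).map s, s w ∈ orb S v ⊔ (orb S v).map s := by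
    intro w hw
    obtain ⟨x, hx, y, hy, rfl⟩ := Submodule.mem_sup.mp hw
    obtain ⟨z, hz, rfl⟩ := Submodule.mem_map.mp hy
    rw [map_add]
    refine Submodule.add_mem _ (Submodule.mem_sup_right (Submodule.mem_map_of_mem hx)) ?_
    have h1 : s (s z) = s (S z) - z := by
      rw [hS]
      simp only [LinearMap.add_apply, map_add, a1]
      abel
    rw [h1]
    exact Submodule.sub_mem _ (Submodule.mem_sup_right (Submodule.mem_map_of_mem (orb_map_mem S v hz)))
      (Submodule.mem_sup_left hz)
  have htop : orb S v ⊔ (orb S v).map s = ⊤ := by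
    rcases hirr (orb S v ⊔ (orb S v).map s) hinv with h | h
    · exfalso
      have h1 : v ∈ orb S v ⊔ (orb S v).map s := Submodule.mem_sup_left (self_mem_orb S v)
      rw [h, Submodule.mem_bot] at h1
      exact hv h1
    · exact h
  have hd2 : finrank F V ≤ 2 * finrank F (orb S v) := by
    have h1 := Submodule.finrank_add_le_finrank_add_finrank (orb S v) ((orb S v).map s)
    rw [htop, finrank_top] at h1
    have h2 := Submodule.finrank_map_le s (orb S v)
    omega
  have hd : finrank F (orb S v) = e := by omega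
  have hfrob := irr_frob s hirr S hSc v hv
  rw [hd] at hfrob
  -- Frobenius
  obtain ⟨p, hp⟩ := CharP.exists F
  obtain ⟨n, hpp, hq⟩ := FiniteField.card F p
  haveI : Fact p.Prime := ⟨hpp⟩
  haveI : CharP (End F V) p :=
    charP_of_injective_algebraMap (algebraMap F (End F V)).injective p
  have hqe : Fintype.card F ^ e = p ^ ((n : ℕ) * e) := by rw [hq, pow_mul]
  set σ : End F V := s ^ (Fintype.card F ^ e) with hσ
  set σ' : End F V := s' ^ (Fintype.card F ^ e) with hσ'
  have h1 : σ + σ' = s + s' := by
    rw [hσ, hσ', hqe, ← add_pow_char_pow_of_commute p _ hcs.symm, ← hqe, ← hS]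
    exact hfrob
  have hσσ' : σ' * σ = 1 := by
    rw [hσ, hσ', ← hcs.mul_pow, hs's, one_pow]
  have hσs : Commute σ s := by rw [hσ]; exact (Commute.refl s).pow_left _
  have hσs' : Commute σ s' := by rw [hσ, hs']; exact ((Commute.refl s).pow_left _).pow_right _
  have h2 : (σ - s) * (σ - s') = 0 := by
    have h3 : (σ - s) * (σ - s') = σ * σ - (s + s') * σ + s * s' := by
      rw [sub_mul, mul_sub, mul_sub, add_mul, hσs'.eq]
      abel
    rw [h3, ← h1, add_mul, hσσ', hss']
    abel
  rcases irr_ker s hirr (σ - s) (hσs.sub_left (Commute.refl s)) with h | h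
  · left
    have h3 : σ = s := sub_eq_zero.mp h
    have hpos : 0 < Fintype.card F ^ e := pow_pos Fintype.card_pos _
    obtain ⟨j, hj⟩ : ∃ j, Fintype.card F ^ e = j + 1 := ⟨_, (Nat.succ_pred_eq_of_pos hpos).symm⟩
    rw [hσ, hj] at h3
    rw [hj, Nat.add_sub_cancel]
    calc s ^ j = s ^ j * (s * s') := by rw [hss', mul_one]
      _ = s ^ (j + 1) * s' := by rw [pow_succ, mul_assoc]
      _ = 1 := by rw [h3, hss']
  · right
    have h3 : σ - s' = 0 := by
      ext w
      apply h
      have := congrArg (fun g : End F V => g w) h2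
      simpa using this
    have h4 : σ = s' := sub_eq_zero.mp h3
    rw [pow_succ, ← hσ, h4, hs's]

end Cfsg.Agent.Lib.Helper67.SP8
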