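import Mathlib
import Cfsg.Agent.Lib.Helper48.JordanForm
import Cfsg.Agent.Lib.Helper67.SP8MASCH
import Cfsg.Agent.Lib.Helper67.SP8DI

/-!
# Ladder SP8, rung SPLIT: splitting off a minimal invariant subspace of a semisimple isometry
-/

set_option autoImplicit false

namespace Cfsg.Agent.Lib.Helper67.SP8

open Module LinearMap Cfsg.Agent.Lib.Helper48

section gen

variable {F V : Type*} [Field F] [AddCommGroup V] [Module F V]

theorem split_restrict_pow_apply (T : End F V) (U : Submodule F V) (hinv : ∀ x ∈ U, T x ∈ U)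
    (j : ℕ) (y : U) : (((T.restrict hinv : End F U) ^ j) y : V) = (T ^ j) y := by
  induction j generalizing y with
  | zero => simp
  | succ j ih =>
    rw [pow_succ, Module.End.mul_apply, ih, pow_succ, Module.End.mul_apply]
    rfl

theorem split_restrict_pow_eq_one_iff (T : End F V) (U : Submodule F V) (hinv : ∀ x ∈ U, T x ∈ U)
    (j : ℕ) : (T.restrict hinv : End F U) ^ j = 1 ↔ ∀ w ∈ U, (T ^ j) w = w := by
  constructor
  · intro h w hw
    have := split_restrict_pow_apply T U hinv j ⟨w, hw⟩
    rw [h] at this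
    exact this.symm
  · intro h
    apply LinearMap.ext
    intro y
    apply Subtype.ext
    rw [split_restrict_pow_apply, h _ y.2]
    rfl

theorem split_min [FiniteDimensional F V] (s : End F V) (hV : 0 < finrank F V) :
    ∃ U : Submodule F V, U ≠ ⊥ ∧ (∀ w ∈ U, s w ∈ U) ∧
      ∀ U' : Submodule F V, U' ≤ U → (∀ w ∈ U', s w ∈ U') → U' = ⊥ ∨ U' = U := by
  classical
  let P : ℕ → Prop := fun n => ∃ U : Submodule F V, U ≠ ⊥ ∧ (∀ w ∈ U, s w ∈ U) ∧ finrank F U = n
  have hex : ∃ n, P n := by
    refine ⟨finrank F V, ⊤, ?_, fun _ _ => trivial, finrank_top F V⟩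
    intro h
    have h1 : finrank F (⊤ : Submodule F V) = 0 := by rw [h, finrank_bot]
    rw [finrank_top] at h1
    omega
  obtain ⟨U, hU0, hUinv, hUn⟩ := Nat.find_spec hex
  refine ⟨U, hU0, hUinv, fun U' hle hinv => ?_⟩
  by_contra hcon
  push Not at hcon
  have h1 := Nat.find_min' hex ⟨U', hcon.1, hinv, rfl⟩
  exact hcon.2 (Submodule.eq_of_le_of_finrank_le hle (by omega))

theorem split_irr (s : End F V) (U : Submodule F V) (hinv : ∀ w ∈ U, s w ∈ U)
    (hmin : ∀ U' : Submodule F V, U' ≤ U → (∀ w ∈ U', s w ∈ U') → U' = ⊥ ∨ U' = U) :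
    ∀ W : Submodule F U, (∀ w ∈ W, (s.restrict hinv : End F U) w ∈ W) → W = ⊥ ∨ W = ⊤ := by
  intro W hW
  have h0 : ∀ w ∈ W.map U.subtype, s w ∈ W.map U.subtype := by
    intro w hw
    obtain ⟨y, hy, rfl⟩ := Submodule.mem_map.mp hw
    exact Submodule.mem_map.mpr ⟨_, hW y hy, rfl⟩
  rcases hmin (W.map U.subtype) (Submodule.map_subtype_le U W) h0 with h | h
  · left
    exact Submodule.map_injective_of_injective U.subtype_injective (h.trans (Submodule.map_bot _).symm)
  · right
    exact Submodule.map_injective_of_injective U.subtype_injective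
      (h.trans (Submodule.map_subtype_top U).symm)

theorem split_glue (s : End F V) (U P : Submodule F V) (hUinv : ∀ w ∈ U, s w ∈ U)
    (htop : U ⊔ P = ⊤) {N : ℕ} (hN : (s.restrict hUinv : End F U) ^ N = 1) :
    ∀ t, N ∣ t → (∀ w ∈ P, (s ^ t) w = w) → s ^ t = 1 := by
  rintro t ⟨c, rfl⟩ hP
  have h1 : (s.restrict hUinv : End F U) ^ (N * c) = 1 := by rw [pow_mul, hN, one_pow]
  have h2 := (split_restrict_pow_eq_one_iff s U hUinv (N * c)).mp h1
  ext y
  have hy : y ∈ U ⊔ P := by rw [htop]; trivial
  obtain ⟨u, hu, w, hw, rfl⟩ := Submodule.mem_sup.mp hy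
  rw [map_add, h2 u hu, hP w hw]
  rfl

theorem split_iso_pow {B : LinearMap.BilinForm F V} {s : End F V} (hs : IsoB B s) (t : ℕ) :
    IsoB B (s ^ t) := by
  induction t with
  | zero => intro x y; simp
  | succ t ih =>
    intro x y
    rw [pow_succ, Module.End.mul_apply, Module.End.mul_apply, ih, hs]

theorem split_one_add_pow {n : End F V} (hn : n * n = 0) (j : ℕ) :
    (1 + n) ^ j = 1 + (j : F) • n := by
  induction j with
  | zero => simp
  | succ j ih =>
    rw [pow_succ, ih, add_mul, mul_add, mul_add, smul_mul_assoc, smul_mul_assoc, hn]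
    push_cast
    rw [add_smul]
    simp only [one_mul, mul_one, smul_zero, add_zero, one_smul]
    abel

end gen

/-- SPLIT -/
theorem split_step {F V : Type*} [Field F] [Fintype F] [AddCommGroup V] [Module F V]
    [FiniteDimensional F V] (B : LinearMap.BilinForm F V) (halt : ∀ v, B v v = 0)
    (hnd : ∀ x, (∀ y, B x y = 0) → x = 0) (s : End F V) (hs : IsoB B s) {m : ℕ}
    (hmF : (m : F) ≠ 0) (hsm : s ^ m = 1) (hV : 0 < finrank F V) :
    ∃ (W : Submodule F V) (e : ℕ), 1 ≤ e ∧ finrank F W + 2 * e = finrank F V ∧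
      (∀ w ∈ W, s w ∈ W) ∧ (∀ x ∈ W, (∀ y ∈ W, B x y = 0) → x = 0) ∧
      ((∀ t, (Fintype.card F ^ e - 1) ∣ t → (∀ w ∈ W, (s ^ t) w = w) → s ^ t = 1) ∨
       (∀ t, (Fintype.card F ^ e + 1) ∣ t → (∀ w ∈ W, (s ^ t) w = w) → s ^ t = 1)) := by
  have hm : m ≠ 0 := by rintro rfl; simp at hmF
  obtain ⟨k, rfl⟩ : ∃ k, m = k + 1 := Nat.exists_eq_succ_of_ne_zero hm
  set s' : End F V := s ^ k with hs'
  have hss' : s * s' = 1 := by rw [hs', ← pow_succ', hsm]
  have hs's : s' * s = 1 := by rw [hs', ← pow_succ, hsm]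
  have a1 : ∀ y, s (s' y) = y := fun y => by
    have := congrArg (fun g : End F V => g y) hss'
    simpa using this
  have a2 : ∀ y, s' (s y) = y := fun y => by
    have := congrArg (fun g : End F V => g y) hs's
    simpa using this
  have hinj : Function.Injective s := Function.LeftInverse.injective a2
  obtain ⟨U, hU0, hUinv, hUmin⟩ := split_min s hV
  have hU's : ∀ w ∈ U, s' w ∈ U := masch_pow_mem s U hUinv k
  have hPinv : ∀ w ∈ B.orthogonal U, s w ∈ B.orthogonal U := by
    intro w hw
    rw [alt_mem_orth] at hw ⊢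
    intro n hn
    rw [← a1 n, hs]
    exact hw _ (hU's n hn)
  have hnondeg := alt_nondeg halt hnd
  have hrefl := alt_refl halt
  have hdimP : finrank F (B.orthogonal U) = finrank F V - finrank F U :=
    LinearMap.BilinForm.finrank_orthogonal hnondeg U
  have hUle : finrank F U ≤ finrank F V := Submodule.finrank_le U
  have hUpos : 1 ≤ finrank F U := Submodule.one_le_finrank_iff.mpr hU0
  have hirrU := split_irr s U hUinv hUmin
  have hinjU : Function.Injective (s.restrict hUinv : End F U) := by
    intro x y hxy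
    apply Subtype.ext
    apply hinj
    exact congrArg Subtype.val hxy
  have hpowU : (s.restrict hUinv : End F U) ^ (k + 1) = 1 := by
    rw [split_restrict_pow_eq_one_iff, hsm]
    intro w _
    rfl
  rcases hUmin (U ⊓ B.orthogonal U) inf_le_left
    (fun w hw => ⟨hUinv w hw.1, hPinv w hw.2⟩) with h | h
  · -- `U` nondegenerate
    have haltU : ∀ v : U, (B.restrict U) v v = 0 := fun v => halt _
    have hndU : ∀ x : U, (∀ y : U, (B.restrict U) x y = 0) → x = 0 := by
      intro x hx
      have h1 : (x : V) ∈ U ⊓ B.orthogonal U := by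
        refine ⟨x.2, alt_mem_orth.mpr fun n hn => ?_⟩
        rw [alt_swap halt]
        have := hx ⟨n, hn⟩
        rw [show B (x : V) n = 0 from this, neg_zero]
      rw [h, Submodule.mem_bot] at h1
      exact Subtype.ext h1
    have heven := even_finrank_add_finrank_ker_of_isAlt (B.restrict U) haltU
    have hker : ker (B.restrict U) = ⊥ := by
      rw [LinearMap.ker_eq_bot']
      intro x hx
      apply hndU
      intro y
      rw [hx]
      rfl
    rw [hker, finrank_bot, add_zero] at heven
    obtain ⟨e, he⟩ := heven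
    have hcompl : IsCompl U (B.orthogonal U) :=
      (LinearMap.BilinForm.isCompl_orthogonal_iff_disjoint hrefl).mpr (disjoint_iff.mpr h)
    have hdich := irr_dich (B.restrict U) haltU hndU (s.restrict hUinv) (fun x y => hs _ _)
      (Nat.succ_pos k) hpowU hirrU (e := e) (by omega)
    refine ⟨B.orthogonal U, e, by omega, by omega, hPinv, ?_, ?_⟩
    · intro x hx hxy
      apply hnd
      intro y
      have hy : y ∈ U ⊔ B.orthogonal U := by rw [hcompl.sup_eq_top]; trivial
      obtain ⟨u, hu, w, hw, rfl⟩ := Submodule.mem_sup.mp hy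
      rw [map_add, hxy w hw, add_zero, alt_swap halt, alt_mem_orth.mp hx u hu, neg_zero]
    · rcases hdich with hd | hd
      · left; exact split_glue s U _ hUinv hcompl.sup_eq_top hd
      · right; exact split_glue s U _ hUinv hcompl.sup_eq_top hd
  · -- `U` totally isotropic
    have hUP : U ≤ B.orthogonal U := inf_eq_left.mp h
    obtain ⟨N', hN'inv, hcompl⟩ := maschke_op s hmF hsm U hUinv
    have hsup : U ⊔ N' ⊓ B.orthogonal U = B.orthogonal U := by
      rw [← sup_inf_assoc_of_le N' hUP, hcompl.sup_eq_top, top_inf_eq]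
    have hinf : U ⊓ (N' ⊓ B.orthogonal U) = ⊥ := by
      rw [← inf_assoc, hcompl.inf_eq_bot, bot_inf_eq]
    have hdimW := Submodule.finrank_sup_add_finrank_inf_eq U (N' ⊓ B.orthogonal U)
    rw [hsup, hinf, finrank_bot, add_zero] at hdimW
    have hoo : B.orthogonal (B.orthogonal U) = U :=
      LinearMap.BilinForm.orthogonal_orthogonal hnondeg hrefl U
    refine ⟨N' ⊓ B.orthogonal U, finrank F U, hUpos, by omega,
      fun w hw => ⟨hN'inv w hw.1, hPinv w hw.2⟩, ?_, Or.inl ?_⟩
    · intro x hx hxy
      have h1 : x ∈ B.orthogonal (B.orthogonal U) := by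
        rw [alt_mem_orth]
        intro n hn
        rw [← hsup] at hn
        obtain ⟨u, hu, w, hw, rfl⟩ := Submodule.mem_sup.mp hn
        rw [map_add, LinearMap.add_apply, alt_mem_orth.mp hx.2 u hu, zero_add, alt_swap halt,
          hxy w hw, neg_zero]
      rw [hoo] at h1
      have h2 : x ∈ U ⊓ (N' ⊓ B.orthogonal U) := ⟨h1, hx⟩
      rw [hinf, Submodule.mem_bot] at h2
      exact h2
    · rintro t ⟨c, rfl⟩ hW
      set t := (Fintype.card F ^ finrank F U - 1) * c with ht
      have h1 : (s.restrict hUinv : End F U) ^ t = 1 := by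
        rw [ht, pow_mul, irr_pow _ hinjU hirrU, one_pow]
      have h2 := (split_restrict_pow_eq_one_iff s U hUinv t).mp h1
      have h3 : ∀ y ∈ B.orthogonal U, (s ^ t) y = y := by
        intro y hy
        rw [← hsup] at hy
        obtain ⟨u, hu, w, hw, rfl⟩ := Submodule.mem_sup.mp hy
        rw [map_add, h2 u hu, hW w hw]
      have hiso := split_iso_pow hs t
      set n : End F V := s ^ t - 1 with hn
      have h4 : ∀ x, n x ∈ U := by
        intro x
        rw [← hoo, alt_mem_orth]
        intro y hy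
        rw [hn, LinearMap.sub_apply, map_sub, Module.End.one_apply]
        conv_lhs => rw [← h3 y hy]
        rw [hiso, h3 y hy, sub_self]
      have h5 : n * n = 0 := by
        ext x
        rw [Module.End.mul_apply]
        conv_lhs => rw [hn]
        rw [LinearMap.sub_apply, h2 _ (h4 x), Module.End.one_apply, sub_self]
        rfl
      have h6 : s ^ t = 1 + n := by rw [hn]; abel
      have h7 : (1 + n) ^ (k + 1) = 1 := by
        rw [← h6, ← pow_mul, mul_comm, pow_mul, hsm, one_pow]
      rw [split_one_add_pow h5] at h7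
      have h8 : ((k + 1 : ℕ) : F) • n = 0 := by
        have := congrArg (fun g : End F V => g - 1) h7
        simpa using this
      have h9 : n = 0 := (smul_eq_zero.mp h8).resolve_left hmF
      rw [h6, h9, add_zero]

end Cfsg.Agent.Lib.Helper67.SP8
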