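import Mathlib
import Cfsg.Agent.Lib.Helper99.SP8.Defs
import Cfsg.Agent.Lib.Helper67.SP8SPLIT

/-!
# Ladder SP8, rung SSREC: the order of a semisimple element of `Sp_{2n}(q)` divides the exponent of a
maximal torus
-/

set_option autoImplicit false

universe u

namespace Cfsg.Agent.Lib.Helper67.SP8

open Module LinearMap Cfsg.Agent.Lib.Helper48 Cfsg.Agent.Lib.Helper99.SP8

/-- SSREC -/
theorem ss_list {F : Type u} [Field F] [Fintype F] (n : ℕ) :
    ∀ (V : Type u) [AddCommGroup V] [Module F V] [FiniteDimensional F V]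
      (B : LinearMap.BilinForm F V), (∀ v, B v v = 0) → (∀ x, (∀ y, B x y = 0) → x = 0) →
      finrank F V = 2 * n → ∀ (s : End F V), IsoB B s → ∀ m : ℕ, (m : F) ≠ 0 → s ^ m = 1 →
      ∃ L, InL (Fintype.card F) n L ∧ s ^ L = 1 := by
  induction n using Nat.strong_induction_on with
  | _ n ih =>
    intro V _ _ _ B halt hnd hdim s hs m hmF hsm
    rcases Nat.eq_zero_or_pos n with rfl | hn
    · refine ⟨1, InL.zero, ?_⟩
      haveI : Subsingleton V := Module.finrank_zero_iff.mp (by rw [hdim])
      ext w
      exact Subsingleton.elim _ _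
    · obtain ⟨W, e, he, hWdim, hWinv, hWnd, halts⟩ :=
        split_step B halt hnd s hs hmF hsm (by omega)
      have hen : e ≤ n := by omega
      obtain ⟨L, hL, hsL⟩ := ih (n - e) (by omega) W (B.restrict W) (fun v => halt _)
        (fun x hx => Subtype.ext (hWnd x.1 x.2 (fun y hy => hx ⟨y, hy⟩))) (by omega)
        (s.restrict hWinv) (fun x y => hs _ _) m hmF
        (by
          rw [split_restrict_pow_eq_one_iff, hsm]
          intro w _
          rfl)
      have hfix : ∀ t, L ∣ t → ∀ w ∈ W, (s ^ t) w = w := by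
        rintro t ⟨c, rfl⟩
        rw [← split_restrict_pow_eq_one_iff s W hWinv, pow_mul, hsL, one_pow]
      have hne : n - e + e = n := Nat.sub_add_cancel hen
      rcases halts with h | h
      · refine ⟨Nat.lcm (Fintype.card F ^ e - 1) L, ?_, ?_⟩
        · have := InL.minus (q := Fintype.card F) he hL
          rwa [hne] at this
        · exact h _ (Nat.dvd_lcm_left _ _) (hfix _ (Nat.dvd_lcm_right _ _))
      · refine ⟨Nat.lcm (Fintype.card F ^ e + 1) L, ?_, ?_⟩
        · have := InL.plus (q := Fintype.card F) he hL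
          rwa [hne] at this
        · exact h _ (Nat.dvd_lcm_left _ _) (hfix _ (Nat.dvd_lcm_right _ _))

end Cfsg.Agent.Lib.Helper67.SP8
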