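import Mathlib
import Cfsg.Agent.Lib.Helper38.UFDefs
import Cfsg.Agent.Lib.Helper38.UFL5a
import Cfsg.Agent.Lib.Helper75.FrobTheory
import Cfsg.Agent.S0042

set_option autoImplicit false
set_option linter.style.haveILetI false

/-! Rung L1 of the ladder UF: a Frobenius complement has a free matrix representation over some
`ZMod p` with `p` prime to its order. -/

namespace Cfsg.Agent.Lib.Helper67.UF

open Cfsg.Agent.Lib.Helper38.UF Subgroup

theorem free_matrix_of_elementary {H : Type*} [Group H] [Finite H] {V0 : Type*} [CommGroup V0]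
    [Finite V0] [Nontrivial V0] (q : ℕ) [hq : Fact q.Prime] (hV : ∀ v : V0, v ^ q = 1)
    (φ : H →* MulAut V0) (hfpf : ∀ h : H, h ≠ 1 → ∀ v, φ h v = v → v = 1) :
    ∃ (d : ℕ) (ρ : H →* GL (Fin d) (ZMod q)), 0 < d ∧ (Nat.card H).Coprime q ∧
      ∀ g : H, g ≠ 1 → ∀ v : Fin d → ZMod q,
        ((ρ g : GL (Fin d) (ZMod q)) : Matrix (Fin d) (Fin d) (ZMod q)).mulVec v = v → v = 0 := by
  obtain ⟨i⟩ : Nonempty (Module (ZMod q) (Additive V0)) := ⟨AddCommGroup.zmodModule (n := q) (by
    intro x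
    exact congrArg Additive.ofMul (hV x.toMul))⟩
  let ρ₀ : H →* Module.End (ZMod q) (Additive V0) :=
    { toFun := fun h => (MonoidHom.toAdditive (φ h).toMonoidHom).toZModLinearMap q
      map_one' := by
        apply LinearMap.ext
        intro v
        rw [Module.End.one_apply, map_one]
        rfl
      map_mul' := by
        intro a b
        apply LinearMap.ext
        intro v
        rw [Module.End.mul_apply, map_mul]
        rfl }
  have hρ₀ : ∀ (h : H) (v : Additive V0), ρ₀ h v = Additive.ofMul (φ h v.toMul) := fun _ _ => rfl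
  haveI : Module.Finite (ZMod q) (Additive V0) := Module.Finite.of_finite
  obtain ⟨d, σ, hd, -, hσ⟩ := exists_irr_matrix (K := ZMod q) (V := Additive V0) ρ₀ (by
    intro g hg v hv
    have := hfpf g hg v.toMul (by
      have h1 := hρ₀ g v
      rw [hv] at h1
      exact (congrArg Additive.toMul h1).symm)
    exact congrArg Additive.ofMul this)
  refine ⟨d, σ, hd, ?_, hσ⟩
  -- coprimality
  rw [Nat.coprime_comm, Nat.Prime.coprime_iff_not_dvd hq.out]
  intro hdvd
  obtain ⟨h, hh⟩ := exists_prime_orderOf_dvd_card' q hdvd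
  have hh1 : h ≠ 1 := by
    rintro rfl
    rw [orderOf_one] at hh
    exact hq.out.one_lt.ne hh
  have hP : IsPGroup q (zpowers h) := by
    apply IsPGroup.of_card (n := 1)
    rw [Nat.card_zpowers, hh, pow_one]
  letI : MulAction (zpowers h) V0 := MulAction.compHom V0 (φ.comp (zpowers h).subtype)
  have hsm : ∀ (x : zpowers h) (v : V0), x • v = φ (x : H) v := fun _ _ => rfl
  have hV0 : IsPGroup q V0 := fun v => ⟨1, by rw [pow_one]; exact hV v⟩
  obtain ⟨k, hk⟩ := IsPGroup.iff_card.mp hV0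
  have hk0 : k ≠ 0 := by
    rintro rfl
    rw [pow_zero] at hk
    have : Subsingleton V0 := (Nat.card_eq_one_iff_unique.mp hk).1
    exact not_subsingleton V0 this
  have hqV : q ∣ Nat.card V0 := by
    rw [hk]
    exact dvd_pow_self q hk0
  obtain ⟨b, hb, hb1⟩ := hP.exists_fixed_point_of_prime_dvd_card_of_fixed_point V0 hqV
    (a := (1 : V0)) (by
      intro x
      rw [hsm, map_one])
  exact hb1 (hfpf h hh1 b (hb ⟨h, mem_zpowers h⟩)).symm

theorem free_matrix_of_elementary' {H : Type*} [Group H] [Finite H] {V0 : Type*} [Group V0]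
    [Finite V0] [Nontrivial V0] (hc : ∀ a b : V0, a * b = b * a) (q : ℕ) [hq : Fact q.Prime]
    (hV : ∀ v : V0, v ^ q = 1)
    (φ : H →* MulAut V0) (hfpf : ∀ h : H, h ≠ 1 → ∀ v, φ h v = v → v = 1) :
    ∃ (d : ℕ) (ρ : H →* GL (Fin d) (ZMod q)), 0 < d ∧ (Nat.card H).Coprime q ∧
      ∀ g : H, g ≠ 1 → ∀ v : Fin d → ZMod q,
        ((ρ g : GL (Fin d) (ZMod q)) : Matrix (Fin d) (Fin d) (ZMod q)).mulVec v = v → v = 0 := by
  letI : CommGroup V0 := { ‹Group V0› with mul_comm := hc }
  exact free_matrix_of_elementary q hV φ hfpf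

theorem exists_free_matrix_rep {G : Type*} [Group G] [Finite G] (hFC : IsFC G) :
    ∃ (p d : ℕ) (_ : Fact p.Prime) (ρ : G →* GL (Fin d) (ZMod p)), 0 < d ∧
      (Nat.card G).Coprime p ∧ ∀ g : G, g ≠ 1 → ∀ v : Fin d → ZMod p,
        ((ρ g : GL (Fin d) (ZMod p)) : Matrix (Fin d) (Fin d) (ZMod p)).mulVec v = v → v = 0 := by
  obtain ⟨L, _, _, H, hH, ⟨e⟩⟩ := hFC
  obtain ⟨K, hK, hKn, -, hKbot, -, hfix⟩ := Cfsg.Agent.Lib.Helper75.frobenius_kernel_data H hH
  obtain ⟨N, hN, -, hNnil⟩ := Cfsg.Agent.S0042.result H hH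
  obtain rfl : N = K := SetLike.coe_injective (hN.trans hK.symm)
  haveI : Nontrivial N := (Subgroup.nontrivial_iff_ne_bot N).2 hKbot
  have hcen : center N ≠ ⊥ := Group.IsNilpotent.center_ne_bot N
  have hcard : Nat.card (center N) ≠ 1 := fun h => hcen (Subgroup.card_eq_one.1 h)
  obtain ⟨q, hq, hdvd⟩ := Nat.exists_prime_and_dvd hcard
  haveI := Fact.mk hq
  obtain ⟨z, hz⟩ := exists_prime_orderOf_dvd_card' q hdvd
  let V0 : Subgroup L :=
    { carrier := {k | k ∈ N ∧ (∀ k' ∈ N, k' * k = k * k') ∧ k ^ q = 1}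
      one_mem' := ⟨one_mem _, fun k' _ => by rw [mul_one, one_mul], one_pow _⟩
      mul_mem' := by
        rintro a b ⟨ha, ha', ha''⟩ ⟨hb, hb', hb''⟩
        refine ⟨mul_mem ha hb, ?_, ?_⟩
        · intro k' hk'
          rw [← mul_assoc, ha' k' hk', mul_assoc, hb' k' hk', mul_assoc]
        · have hab : Commute a b := ha' b hb |>.symm
          rw [hab.mul_pow, ha'', hb'', one_mul]
      inv_mem' := by
        rintro a ⟨ha, ha', ha''⟩
        refine ⟨inv_mem ha, ?_, by rw [inv_pow, ha'', inv_one]⟩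
        intro k' hk'
        have h1 : Commute k' a := ha' k' hk'
        exact h1.inv_right }
  haveI hV0n : V0.Normal := by
    constructor
    rintro a ⟨ha, ha', ha''⟩ g
    refine ⟨hKn.conj_mem a ha g, ?_, by rw [conj_pow, ha'', mul_one, mul_inv_cancel]⟩
    intro k' hk'
    have h1 := ha' (g⁻¹ * k' * g) (by
      have := hKn.conj_mem k' hk' g⁻¹
      rwa [inv_inv] at this)
    calc k' * (g * a * g⁻¹) = g * ((g⁻¹ * k' * g) * a) * g⁻¹ := by group
      _ = g * (a * (g⁻¹ * k' * g)) * g⁻¹ := by rw [h1]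
      _ = g * a * g⁻¹ * k' := by group
  have hzV : ((z : N) : L) ∈ V0 := by
    refine ⟨(z : N).2, ?_, ?_⟩
    · intro k' hk'
      exact congrArg Subtype.val (mem_center_iff.1 z.2 ⟨k', hk'⟩)
    · have h1 := pow_orderOf_eq_one z
      rw [hz] at h1
      have h2 := congrArg (fun w : center N => ((w : N) : L)) h1
      simpa using h2
  have hz1 : ((z : N) : L) ≠ 1 := by
    intro h
    have h1 : z = 1 := Subtype.ext (Subtype.ext h)
    rw [h1, orderOf_one] at hz
    exact hq.one_lt.ne hz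
  haveI : Nontrivial V0 := ⟨⟨⟨_, hzV⟩, 1, fun h => hz1 (congrArg Subtype.val h)⟩⟩
  obtain ⟨d, ρ, hd, hcop, hfree⟩ := free_matrix_of_elementary' (H := H) (V0 := V0) (by
      rintro ⟨a, ha⟩ ⟨b, hb⟩
      apply Subtype.ext
      exact hb.2.1 a ha.1) q (by
      rintro ⟨a, ha⟩
      apply Subtype.ext
      exact ha.2.2)
      ((MulAut.conjNormal (H := V0)).comp H.subtype) (by
      rintro h hh ⟨v, hv⟩ hfixv
      apply Subtype.ext
      have h1 : (h : L) * v * (h : L)⁻¹ = v := congrArg Subtype.val hfixv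
      exact hfix h h.2 (fun h2 => hh (Subtype.ext h2)) v hv.1 (mul_inv_eq_iff_eq_mul.1 h1))
  refine ⟨q, d, ‹_›, ρ.comp e.toMonoidHom, hd, ?_, ?_⟩
  · rw [Nat.card_congr e.toEquiv]
    exact hcop
  · intro g hg v hv
    exact hfree (e g) (fun h => hg (e.injective (h.trans (map_one e).symm))) v hv

end Cfsg.Agent.Lib.Helper67.UF
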