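import Cfsg.Agent.Lib.Helper80.BRDefs
import Cfsg.Agent.Lib.Helper20.M11G8
import Cfsg.Agent.Lib.Helper82.StructConst

set_option autoImplicit false

/-! Rung DEGDVD of the ladder BR. -/

namespace Cfsg.Agent.Lib.Helper67.BR

open Cfsg Cfsg.Agent.Lib.Helper80.BR Cfsg.Agent.Lib.Helper82 Cfsg.Agent.Lib.Helper81

theorem deg_dvd {G : Type*} [Group G] [Finite G] (p : ℕ) [Fact p.Prime]
    (P : Sylow p G) (hP : Nat.card P = p) {X Y : Finset (IrrCharacter G)} {s : IrrCharacter G → ℤ}
    {ε : ℤ} (D : Dat p (P : Subgroup G) X Y s ε) :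
    (∀ χ ∈ X, charDegree (χ : G → ℂ) ∣ X.card * Nat.card (Sylow p G)) ∧
    (∀ θ ∈ Y, charDegree (θ : G → ℂ) ∣ X.card * Nat.card (Sylow p G)) := by
  classical
  haveI := Fintype.ofFinite G
  have hp : p.Prime := Fact.out
  -- a generator of P
  obtain ⟨x, hxP, hx1⟩ : ∃ x ∈ (P : Subgroup G), x ≠ 1 := by
    by_contra hcon
    push Not at hcon
    have : (P : Subgroup G) = ⊥ := (Subgroup.eq_bot_iff_forall _).mpr hcon
    have h1 : Nat.card (P : Subgroup G) = 1 := by rw [this]; exact Subgroup.card_bot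
    have h2 : Nat.card (P : Subgroup G) = p := hP
    rw [h1] at h2
    exact hp.one_lt.ne h2
  have hzx : Subgroup.zpowers x = (P : Subgroup G) := by
    have hle : Subgroup.zpowers x ≤ (P : Subgroup G) := by rw [Subgroup.zpowers_le]; exact hxP
    apply Subgroup.eq_of_le_of_card_ge hle
    have h2 : Nat.card (P : Subgroup G) = p := hP
    have h3 : Nat.card (Subgroup.zpowers x) ∣ p := by
      rw [← h2]; exact Subgroup.card_dvd_of_le hle
    rcases (Nat.dvd_prime hp).mp h3 with h4 | h4
    · rw [Nat.card_zpowers, orderOf_eq_one_iff] at h4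
      exact absurd h4 hx1
    · rw [h2, h4]
  have hcent : Subgroup.centralizer ({x} : Set G) = Subgroup.centralizer ((P : Subgroup G) : Set G) := by
    rw [← hzx, Subgroup.zpowers_eq_closure, Subgroup.centralizer_closure]
  have hk : (Subgroup.centralizer ({x} : Set G)).index = X.card * Nat.card (Sylow p G) := by
    have h1 : Nat.card (Sylow p G) = (Subgroup.normalizer ((P : Subgroup G) : Set G)).index :=
      Sylow.card_eq_index_normalizer P
    rw [hcent, D.cardX, h1, Subgroup.relIndex_mul_index (Subgroup.centralizer_le_normalizer _)]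
  have hreg : ¬ p ∣ orderOf (1 : G) := by
    rw [orderOf_one]
    exact hp.one_lt.not_ge ∘ Nat.le_of_dvd one_pos
  rw [← hk]
  constructor
  · intro χ hχ
    apply Cfsg.Agent.Lib.Helper20.M11.deg_dvd_index_centralizer χ x
    have h1 := D.valX χ hχ x hxP hx1 1 (one_mem _) hreg
    rw [mul_one] at h1
    rcases D.sgn χ hχ with h2 | h2
    · left; rw [h1, h2]; simp
    · right; rw [h1, h2]; simp
  · intro θ hθ
    set k := (Subgroup.centralizer ({x} : Set G)).index with hkdef
    set y := charDegree (θ : G → ℂ) with hy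
    have hy0 : y ≠ 0 := (isIrr_charDegree_pos θ.2).ne'
    have hyC : (y : ℂ) ≠ 0 := by exact_mod_cast hy0
    have hdeg : ∀ θ' ∈ Y, (θ' : G → ℂ) 1 = (y : ℂ) := by
      intro θ' hθ'
      rw [D.eqY θ' hθ' θ hθ 1 hreg, isChar_one_eq (isIrr_isChar θ.2)]
    have hint : IsIntegral ℤ (∑ θ' ∈ Y, centralChar (θ' : G → ℂ) x) :=
      IsIntegral.sum _ (fun θ' _ => centralChar_isIntegral θ' x)
    have hsum : ∑ θ' ∈ Y, centralChar (θ' : G → ℂ) x = (k : ℂ) * (-(ε : ℂ)) / (y : ℂ) := by
      rw [← D.sumY x hxP hx1, Finset.mul_sum, Finset.sum_div]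
      apply Finset.sum_congr rfl
      intro θ' hθ'
      rw [centralChar, hdeg θ' hθ']
    rw [hsum] at hint
    rcases D.eps with h2 | h2
    · apply nat_dvd_of_isIntegral hint.neg _ hy0
      rw [h2]
      push_cast
      field_simp
    · apply nat_dvd_of_isIntegral hint _ hy0
      rw [h2]
      push_cast
      field_simp

end Cfsg.Agent.Lib.Helper67.BR
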