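import Mathlib

set_option autoImplicit false

/-! Rung INV of the ladder BR. -/

namespace Cfsg.Agent.Lib.Helper67.BR

theorem orderOf_eq_of_isConj {G : Type*} [Group G] {a b : G} (h : IsConj a b) :
    orderOf b = orderOf a := by
  obtain ⟨c, hc⟩ := isConj_iff.mp h
  rw [← hc]
  exact orderOf_injective (MulAut.conj c).toMonoidHom (MulAut.conj c).injective a

theorem invol_struct {G : Type*} [Group G] [Finite G] (w : G) (hw : orderOf w = 2) (E : Subgroup G)
    (hE : E ≤ Subgroup.centralizer ({w} : Set G)) (hwE : w ∈ E)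
    (hEw : ∀ v ∈ E, orderOf v = 2 → v = w)
    (hcount : Nat.card {i : G // IsConj w i ∧ IsConj w (i⁻¹ * w)} + Nat.card E =
      Nat.card (Subgroup.centralizer ({w} : Set G)))
    (h3 : 2 * Nat.card E < Nat.card (Subgroup.centralizer ({w} : Set G))) :
    Nat.card E = 2 ∧ ∀ l ∈ Subgroup.centralizer ({w} : Set G), l ≠ 1 → IsConj w l := by
  set C := Subgroup.centralizer ({w} : Set G) with hC
  have sq_of : ∀ g : G, orderOf g = 2 → g * g = 1 := by
    intro g hg
    rw [← sq, ← hg, pow_orderOf_eq_one]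
  set A : Set G := {i | IsConj w i ∧ IsConj w (i⁻¹ * w)} with hA
  set B : Set G := (C : Set G) \ (E : Set G) with hB
  have hAB : A ⊆ B := by
    rintro i ⟨h1, h2⟩
    have hi : i * i = 1 := sq_of i ((orderOf_eq_of_isConj h1).trans hw)
    have hiw : (i⁻¹ * w) * (i⁻¹ * w) = 1 := sq_of _ ((orderOf_eq_of_isConj h2).trans hw)
    have hww : w * w = 1 := sq_of w hw
    have hinv : i⁻¹ = i := inv_eq_of_mul_eq_one_left hi
    refine ⟨?_, ?_⟩
    · change i ∈ C
      rw [hC, Subgroup.mem_centralizer_singleton_iff]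
      rw [hinv] at hiw
      calc i * w = i * w * (i * w * (i * w))⁻¹ := by rw [hiw]; group
        _ = w⁻¹ * i⁻¹ := by group
        _ = w * i := by rw [hinv, inv_eq_of_mul_eq_one_left hww]
    · intro hiE
      have := hEw i hiE ((orderOf_eq_of_isConj h1).trans hw)
      rw [this, inv_mul_cancel] at h2
      have := orderOf_eq_of_isConj h2
      rw [orderOf_one, hw] at this
      omega
  have hcA : A.ncard = Nat.card {i : G // IsConj w i ∧ IsConj w (i⁻¹ * w)} := by
    rw [← Nat.card_coe_set_eq]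
    rfl
  have hcB : B.ncard = Nat.card C - Nat.card E := by
    rw [hB, Set.ncard_sdiff (by exact hE) (Set.toFinite _), ← Nat.card_coe_set_eq,
      ← Nat.card_coe_set_eq]
    rfl
  have hAeq : A = B := by
    apply Set.eq_of_subset_of_ncard_le hAB _ (Set.toFinite _)
    rw [hcA, hcB]
    omega
  have hBconj : ∀ l ∈ B, IsConj w l := by
    intro l hl
    rw [← hAeq] at hl
    exact hl.1
  have hBsq : ∀ l ∈ B, l * l = 1 := fun l hl =>
    sq_of l ((orderOf_eq_of_isConj (hBconj l hl)).trans hw)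
  have hBinv : ∀ l ∈ B, ∀ v ∈ E, l * v * l⁻¹ = v⁻¹ := by
    intro l hl v hv
    have h1 : l * v ∈ B := by
      refine ⟨C.mul_mem hl.1 (hE hv), ?_⟩
      intro h
      apply hl.2
      have := E.mul_mem h (E.inv_mem hv)
      simpa using this
    have h2 := hBsq _ h1
    have h4 := hBsq l hl
    have hinv : l⁻¹ = l := inv_eq_of_mul_eq_one_left h4
    rw [hinv]
    exact eq_inv_of_mul_eq_one_left (by rw [← h2]; group)
  -- two elements of B with product outside E
  have hex : ∃ l1 ∈ B, ∃ l2 ∈ B, l1 * l2 ∈ B := by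
    by_contra hcon
    push Not at hcon
    have hBne : B.Nonempty := by
      rw [← Set.ncard_pos (Set.toFinite _), hcB]
      omega
    obtain ⟨l1, hl1⟩ := hBne
    have : B.ncard ≤ (E : Set G).ncard := by
      apply Set.ncard_le_ncard_of_injOn (fun l => l1 * l) _ _ (Set.toFinite _)
      · intro l hl
        by_contra h
        exact hcon l1 hl1 l hl ⟨C.mul_mem hl1.1 hl.1, h⟩
      · intro a _ b _ hab
        exact mul_left_cancel hab
    rw [hcB] at this
    have h5 : (E : Set G).ncard = Nat.card E := by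
      rw [← Nat.card_coe_set_eq]; rfl
    omega
  obtain ⟨l1, hl1, l2, hl2, hl12⟩ := hex
  have hEall : ∀ v ∈ E, v = 1 ∨ v = w := by
    intro v hv
    have h1 := hBinv _ hl12 v hv
    have h2 := hBinv l2 hl2 v hv
    have h4 := hBinv l1 hl1 v⁻¹ (E.inv_mem hv)
    have h5 : v = v⁻¹ := by
      calc v = (v⁻¹)⁻¹ := (inv_inv v).symm
        _ = l1 * v⁻¹ * l1⁻¹ := h4.symm
        _ = l1 * (l2 * v * l2⁻¹) * l1⁻¹ := by rw [h2]
        _ = l1 * l2 * v * (l1 * l2)⁻¹ := by group
        _ = v⁻¹ := h1
    have h6 : v ^ 2 = 1 := by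
      rw [sq]
      nth_rewrite 1 [h5]
      exact inv_mul_cancel v
    by_cases hv1 : v = 1
    · exact Or.inl hv1
    · exact Or.inr (hEw v hv (orderOf_eq_prime h6 hv1))
  have hEz : E = Subgroup.zpowers w := by
    apply le_antisymm
    · intro v hv
      rcases hEall v hv with rfl | rfl
      · exact one_mem _
      · exact Subgroup.mem_zpowers _
    · rw [Subgroup.zpowers_le]; exact hwE
  refine ⟨by rw [hEz, Nat.card_zpowers, hw], ?_⟩
  intro l hl hl1'
  by_cases hlE : l ∈ E
  · rcases hEall l hlE with rfl | rfl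
    · exact absurd rfl hl1'
    · exact IsConj.refl _
  · exact hBconj l ⟨hl, hlE⟩

end Cfsg.Agent.Lib.Helper67.BR
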