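import Mathlib
import Cfsg.Agent.Lib.Helper78.SelfCent

set_option autoImplicit false

/-! Rung KAPPA of the ladder BR. -/

namespace Cfsg.Agent.Lib.Helper67.BR

open Cfsg.Agent.Lib.Helper78

theorem kappa {G : Type*} [Group G] [Finite G] (p : ℕ) [Fact p.Prime] (z : G) (hz : orderOf z = p)
    (hC : Subgroup.centralizer ({z} : Set G) = Subgroup.zpowers z) (w : G)
    (hw : w ∈ Subgroup.normalizer ((Subgroup.zpowers z : Subgroup G) : Set G))
    (hcard : orderOf w * p = Nat.card (Subgroup.normalizer ((Subgroup.zpowers z : Subgroup G) : Set G)))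
    (v : G) (hv : v ∈ Subgroup.zpowers w) (hv1 : v ≠ 1) :
    Nat.card {g : G // g ∈ Subgroup.normalizer ((Subgroup.zpowers z : Subgroup G) : Set G) ∧ IsConj v g} =
      p * Nat.card {u : G // u ∈ Subgroup.zpowers w ∧ IsConj v u} := by
  have hp : p.Prime := Fact.out
  have hCz := hC
  set P := Subgroup.zpowers z with hP
  set N := Subgroup.normalizer (P : Set G) with hN
  have hcardP : Nat.card P = p := by rw [hP, Nat.card_zpowers, hz]
  have hPN : P ≤ N := Subgroup.le_normalizer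
  have hWN : Subgroup.zpowers w ≤ N := by rw [Subgroup.zpowers_le]; exact hw
  -- (a)
  have ha : ¬ p ∣ orderOf w := by
    intro h
    have h1 : p * p ∣ Nat.card G := by
      refine dvd_trans ?_ (Subgroup.card_subgroup_dvd_card N)
      rw [← hcard]
      exact Nat.mul_dvd_mul_right h p
    have h2 := sc_factorization hp hz hCz
    have h3 : p ^ 2 ∣ Nat.card G := by rw [sq]; exact h1
    have h4 := (hp.pow_dvd_iff_le_factorization Nat.card_pos.ne').mp h3
    omega
  have hcop : Nat.Coprime p (orderOf w) := (Nat.Prime.coprime_iff_not_dvd hp).mpr ha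
  -- (b)
  have hb : ∀ u, u ∈ P → u ∈ Subgroup.zpowers w → u = 1 := by
    intro u h1 h2
    have h3 : orderOf u ∣ p := by
      rw [← hcardP]
      have := orderOf_dvd_natCard (⟨u, h1⟩ : P)
      rwa [← Subgroup.orderOf_coe] at this
    have h4 : orderOf u ∣ orderOf w := by
      rw [← Nat.card_zpowers w]
      have := orderOf_dvd_natCard (⟨u, h2⟩ : Subgroup.zpowers w)
      rwa [← Subgroup.orderOf_coe] at this
    exact orderOf_eq_one_iff.mp (Nat.eq_one_of_dvd_coprimes hcop h3 h4)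
  -- (c)
  have hc : ∀ u ∈ Subgroup.zpowers w, u ≠ 1 → ∀ y ∈ P, u * y = y * u → y = 1 := by
    intro u hu hu1 y hy hcomm
    by_contra hy1
    have h1 := sc_zpowers_eq_of_mem hp hz hy hy1
    have h2 : z ∈ Subgroup.zpowers y := by rw [h1]; exact Subgroup.mem_zpowers z
    obtain ⟨k, hk⟩ := Subgroup.mem_zpowers_iff.mp h2
    have h3 : u * z = z * u := by
      rw [← hk]
      exact Commute.zpow_right (show Commute u y from hcomm) k
    exact hu1 (hb u (sc_mem_zpowers_of_commute hCz h3) hu)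
  -- (d)
  have hd : ∀ u ∈ Subgroup.zpowers w, u ≠ 1 → ∀ x ∈ P, ∃ y ∈ P, x * u = y⁻¹ * u * y := by
    intro u hu hu1 x hx
    have huN : u ∈ N := hWN hu
    let f : P → P := fun y => ⟨(y : G)⁻¹ * (u * y * u⁻¹),
      P.mul_mem (P.inv_mem y.2) ((Subgroup.mem_normalizer_iff.mp huN y).mp y.2)⟩
    have hinj : Function.Injective f := by
      intro y y' h
      have h1 : (y : G)⁻¹ * (u * y * u⁻¹) = (y' : G)⁻¹ * (u * y' * u⁻¹) := congrArg Subtype.val h
      have h2 : u * ((y : G) * (y' : G)⁻¹) = ((y : G) * (y' : G)⁻¹) * u := by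
        have h3 : (y : G)⁻¹ * u * y = (y' : G)⁻¹ * u * y' := by
          have := congrArg (· * u) h1
          simpa [mul_assoc] using this
        calc u * ((y : G) * (y' : G)⁻¹) = y * ((y : G)⁻¹ * u * y) * (y' : G)⁻¹ := by group
          _ = y * ((y' : G)⁻¹ * u * y') * (y' : G)⁻¹ := by rw [h3]
          _ = _ := by group
      have h4 := hc u hu hu1 _ (P.mul_mem y.2 (P.inv_mem y'.2)) h2
      exact Subtype.ext (mul_inv_eq_one.mp h4)
    obtain ⟨y, hy⟩ := (Finite.injective_iff_surjective.mp hinj) ⟨x, hx⟩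
    refine ⟨y, y.2, ?_⟩
    have h1 : (y : G)⁻¹ * (u * y * u⁻¹) = x := congrArg Subtype.val hy
    rw [← h1]
    group
  -- (e)
  have he : ∀ g ∈ N, ∃ x ∈ P, ∃ u ∈ Subgroup.zpowers w, g = x * u := by
    let F : P × Subgroup.zpowers w → N := fun xu =>
      ⟨(xu.1 : G) * xu.2, N.mul_mem (hPN xu.1.2) (hWN xu.2.2)⟩
    have hinj : Function.Injective F := by
      rintro ⟨x, u⟩ ⟨x', u'⟩ h
      have h1 : (x : G) * u = x' * u' := congrArg Subtype.val h
      have h2 : (x' : G)⁻¹ * x = u' * (u : G)⁻¹ := by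
        calc (x' : G)⁻¹ * x = (x' : G)⁻¹ * (x * u) * (u : G)⁻¹ := by group
          _ = (x' : G)⁻¹ * (x' * u') * (u : G)⁻¹ := by rw [h1]
          _ = _ := by group
      have h3 := hb _ (P.mul_mem (P.inv_mem x'.2) x.2)
        (by rw [h2]; exact Subgroup.mul_mem _ u'.2 (Subgroup.inv_mem _ u.2))
      have h4 : (x : G) = x' := (inv_mul_eq_one.mp h3).symm
      have h5 : (u : G) = u' := by
        rw [h4] at h1
        exact mul_left_cancel h1
      exact Prod.ext (Subtype.ext h4) (Subtype.ext h5)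
    have hbij : Function.Bijective F := by
      rw [Nat.bijective_iff_injective_and_card]
      refine ⟨hinj, ?_⟩
      rw [Nat.card_prod, hcardP, Nat.card_zpowers, ← hcard, mul_comm]
    intro g hg
    obtain ⟨⟨x, u⟩, hxu⟩ := hbij.2 ⟨g, hg⟩
    exact ⟨x, x.2, u, u.2, (congrArg Subtype.val hxu).symm⟩
  have hne : ∀ u, IsConj v u → u ≠ 1 := by
    rintro u hu rfl
    exact hv1 (isConj_one_right.mp hu.symm)
  rw [← hcardP, ← Nat.card_prod]
  symm
  let Φ : P × {u : G // u ∈ Subgroup.zpowers w ∧ IsConj v u} → {g : G // g ∈ N ∧ IsConj v g} :=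
    fun xu => ⟨(xu.1 : G) * xu.2, N.mul_mem (hPN xu.1.2) (hWN xu.2.2.1), by
      obtain ⟨y, -, hy⟩ := hd xu.2 xu.2.2.1 (hne _ xu.2.2.2) xu.1 xu.1.2
      rw [hy]
      refine xu.2.2.2.trans (isConj_iff.mpr ⟨y⁻¹, by group⟩)⟩
  apply Nat.card_congr (Equiv.ofBijective Φ ⟨?_, ?_⟩)
  · rintro ⟨x, u⟩ ⟨x', u'⟩ h
    have h1 : (x : G) * u = x' * u' := congrArg Subtype.val h
    have h2 : (x' : G)⁻¹ * x = u' * (u : G)⁻¹ := by
      calc (x' : G)⁻¹ * x = (x' : G)⁻¹ * (x * u) * (u : G)⁻¹ := by group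
        _ = (x' : G)⁻¹ * (x' * u') * (u : G)⁻¹ := by rw [h1]
        _ = _ := by group
    have h3 := hb _ (P.mul_mem (P.inv_mem x'.2) x.2)
      (by rw [h2]; exact Subgroup.mul_mem _ u'.2.1 (Subgroup.inv_mem _ u.2.1))
    have h4 : (x : G) = x' := (inv_mul_eq_one.mp h3).symm
    have h5 : (u : G) = u' := by
      rw [h4] at h1
      exact mul_left_cancel h1
    exact Prod.ext (Subtype.ext h4) (Subtype.ext h5)
  · rintro ⟨g, hg, hgv⟩
    obtain ⟨x, hx, u, hu, rfl⟩ := he g hg
    have hu1 : u ≠ 1 := by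
      rintro rfl
      rw [mul_one] at hgv
      -- x ∈ P is conjugate to v ∈ ⟨w⟩
      have h1 : orderOf x = orderOf v := by
        obtain ⟨c, hc'⟩ := isConj_iff.mp hgv
        rw [← hc']
        exact orderOf_injective (MulAut.conj c).toMonoidHom (MulAut.conj c).injective v
      have h3 : orderOf x ∣ p := by
        rw [← hcardP]
        have := orderOf_dvd_natCard (⟨x, hx⟩ : P)
        rwa [← Subgroup.orderOf_coe] at this
      have h4 : orderOf v ∣ orderOf w := by
        rw [← Nat.card_zpowers w]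
        have := orderOf_dvd_natCard (⟨v, hv⟩ : Subgroup.zpowers w)
        rwa [← Subgroup.orderOf_coe] at this
      rw [h1] at h3
      exact hv1 (orderOf_eq_one_iff.mp (Nat.eq_one_of_dvd_coprimes hcop h3 h4))
    obtain ⟨y, -, hy⟩ := hd u hu hu1 x hx
    refine ⟨⟨⟨x, hx⟩, ⟨u, hu, ?_⟩⟩, rfl⟩
    refine hgv.trans ?_
    rw [hy]
    exact isConj_iff.mpr ⟨y, by group⟩

end Cfsg.Agent.Lib.Helper67.BR
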