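import Mathlib
import Cfsg.Agent.Lib.Helper78.SelfCent

set_option autoImplicit false

/-! Rung LG of the ladder BR. -/

namespace Cfsg.Agent.Lib.Helper67.BR

open Cfsg.Agent.Lib.Helper78

theorem card_normalizer_zpowers {G : Type*} [Group G] [Finite G] (w : G) :
    Nat.card (Subgroup.normalizer ((Subgroup.zpowers w : Subgroup G) : Set G)) =
      Nat.card {u : G // u ∈ Subgroup.zpowers w ∧ IsConj w u} *
        Nat.card (Subgroup.centralizer ({w} : Set G)) := by
  set N := Subgroup.normalizer ((Subgroup.zpowers w : Subgroup G) : Set G) with hN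
  letI : MulAction N G := MulAction.compHom G ((MulAut.conj : G →* MulAut G).comp N.subtype)
  have hsm : ∀ (n : N) (g : G), n • g = (n : G) * g * (n : G)⁻¹ := fun _ _ => rfl
  have h1 : Nat.card N = Nat.card (MulAction.orbit N w) * Nat.card (MulAction.stabilizer N w) := by
    rw [Nat.card_congr (MulAction.orbitEquivQuotientStabilizer N w)]
    exact Subgroup.card_eq_card_quotient_mul_card_subgroup _
  have h2 : Nat.card (MulAction.orbit N w) = Nat.card {u : G // u ∈ Subgroup.zpowers w ∧ IsConj w u} := by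
    apply Nat.card_congr
    apply Equiv.subtypeEquivRight
    intro u
    constructor
    · rintro ⟨n, rfl⟩
      change (n • w) ∈ _ ∧ IsConj w (n • w)
      rw [hsm]
      exact ⟨sc_mem_normalizer_iff.mp n.2, isConj_iff.mpr ⟨n, rfl⟩⟩
    · rintro ⟨hu, hc⟩
      obtain ⟨c, rfl⟩ := isConj_iff.mp hc
      exact ⟨⟨c, sc_mem_normalizer_iff.mpr hu⟩, rfl⟩
  have h3 : Nat.card (MulAction.stabilizer N w) = Nat.card (Subgroup.centralizer ({w} : Set G)) := by
    rw [← Subgroup.card_map_of_injective (f := N.subtype) N.subtype_injective]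
    congr 2
    ext g
    simp only [Subgroup.mem_map, MulAction.mem_stabilizer_iff, Subgroup.mem_centralizer_singleton_iff]
    constructor
    · rintro ⟨n, hn, rfl⟩
      rw [hsm] at hn
      exact mul_inv_eq_iff_eq_mul.mp hn
    · intro hg
      have hg' : g * w * g⁻¹ = w := mul_inv_eq_iff_eq_mul.mpr hg
      exact ⟨⟨g, sc_mem_normalizer_iff.mpr (by rw [hg']; exact Subgroup.mem_zpowers w)⟩, hg', rfl⟩
  rw [h1, h2, h3]

end Cfsg.Agent.Lib.Helper67.BR
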