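import Cfsg.Agent.Lib.Helper80.BRDefs
import Cfsg.Agent.Lib.Helper82.Linear

set_option autoImplicit false

/-! Rung LIN of the ladder BR. -/

namespace Cfsg.Agent.Lib.Helper67.BR

open Cfsg Cfsg.Agent.Lib.Helper80.BR Cfsg.Agent.Lib.Helper82

theorem eq_triv_of_perfect {G : Type*} [Group G] [Finite G] (hperf : commutator G = ⊤)
    (χ : IrrCharacter G) (h : charDegree (χ : G → ℂ) = 1) : χ = Cfsg.Agent.Lib.Helper82.trivIrr G := by
  have hc := isIrr_isChar χ.2
  have h1 : (χ : G → ℂ) 1 = 1 := by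
    rw [isChar_one_eq hc, h, Nat.cast_one]
  apply Subtype.ext
  funext g
  rw [trivIrr_apply]
  exact isChar_linear_commutator hc h1 (by rw [hperf]; exact Subgroup.mem_top g)

end Cfsg.Agent.Lib.Helper67.BR
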