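import Mathlib
import Cfsg.Agent.Lib.Helper78.SelfCent

set_option autoImplicit false

/-! Rung NSTR of the ladder BR. -/

namespace Cfsg.Agent.Lib.Helper67.BR

open Cfsg.Agent.Lib.Helper78

theorem nstr {G : Type*} [Group G] [Finite G] (p : ℕ) [Fact p.Prime] (z : G) (hz : orderOf z = p)
    (hC : Subgroup.centralizer ({z} : Set G) = Subgroup.zpowers z) :
    ∃ w ∈ Subgroup.normalizer ((Subgroup.zpowers z : Subgroup G) : Set G),
      orderOf w * p = Nat.card (Subgroup.normalizer ((Subgroup.zpowers z : Subgroup G) : Set G)) ∧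
      orderOf w ∣ p - 1 ∧
      ∀ g ∈ Subgroup.normalizer ((Subgroup.zpowers z : Subgroup G) : Set G),
        ∃ x ∈ Subgroup.zpowers z, ∃ v ∈ Subgroup.zpowers w, g = x * v := by
  have hp : p.Prime := Fact.out
  set P := Subgroup.zpowers z with hP
  set N := Subgroup.normalizer (P : Set G) with hN
  have hcardP : Nat.card P = p := by rw [hP, Nat.card_zpowers, hz]
  set φ : N →* MulAut P := P.normalizerMonoidHom with hφ
  have hφv : ∀ (n : N) (x : P), ((φ n x : P) : G) = (n : G) * x * (n : G)⁻¹ := fun _ _ => rfl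
  have hker : ∀ n : N, n ∈ φ.ker ↔ (n : G) ∈ P := by
    intro n
    rw [MonoidHom.mem_ker]
    constructor
    · intro h
      have h1 := hφv n ⟨z, Subgroup.mem_zpowers z⟩
      rw [h] at h1
      apply sc_mem_zpowers_of_commute hC
      exact (mul_inv_eq_iff_eq_mul.mp h1.symm)
    · intro h
      ext x
      rw [hφv]
      obtain ⟨a, ha⟩ := Subgroup.mem_zpowers_iff.mp h
      obtain ⟨b, hb⟩ := Subgroup.mem_zpowers_iff.mp x.2
      rw [MulAut.one_apply, ← ha, ← hb]
      group
  have hcardker : Nat.card φ.ker = p := by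
    rw [← hcardP]
    have hPN : P ≤ N := Subgroup.le_normalizer
    apply Nat.card_congr
    exact
      { toFun := fun n => ⟨(n : N), (hker n).mp n.2⟩
        invFun := fun x => ⟨⟨x, hPN x.2⟩, (hker _).mpr x.2⟩
        left_inv := fun _ => rfl
        right_inv := fun _ => rfl }
  haveI : IsCyclic P := by rw [hP]; infer_instance
  have hAut : IsCyclic (MulAut P) ∧ Nat.card (MulAut P) = p - 1 := by
    have e := IsCyclic.mulAutMulEquiv P
    rw [hcardP] at e
    constructor
    · exact isCyclic_of_surjective e.symm e.symm.surjective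
    · rw [Nat.card_congr e.toEquiv, Nat.card_eq_fintype_card, ZMod.card_units]
  haveI := hAut.1
  haveI : IsCyclic φ.range := inferInstance
  obtain ⟨⟨γ, g, rfl⟩, hgen⟩ := IsCyclic.exists_generator (α := φ.range)
  set e := Nat.card φ.range with he
  have hedvd : e ∣ p - 1 := by
    rw [← hAut.2]
    exact Subgroup.card_subgroup_dvd_card _
  have hcardN : Nat.card N = e * p := by
    rw [Subgroup.card_eq_card_quotient_mul_card_subgroup φ.ker, hcardker,
      Nat.card_congr (QuotientGroup.quotientKerEquivRange φ).toEquiv]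
  have hog : orderOf (φ g) = e := by
    have := orderOf_eq_card_of_forall_mem_zpowers hgen
    rw [he, ← this, ← Subgroup.orderOf_coe]
  have hcop : Nat.Coprime e p := by
    have h1 : 0 < p - 1 := by have := hp.two_le; omega
    have h2 : e ≤ p - 1 := Nat.le_of_dvd h1 hedvd
    have h3 : 0 < e := Nat.pos_of_dvd_of_pos hedvd h1
    rw [Nat.coprime_comm, Nat.Prime.coprime_iff_not_dvd hp]
    intro h
    have := Nat.le_of_dvd h3 h
    omega
  set w : N := g ^ p with hw
  have hφw : orderOf (φ w) = e := by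
    rw [hw, map_pow, Nat.Coprime.orderOf_pow (by rw [hog]; exact hcop), hog]
  have hwe : w ^ e = 1 := by
    have h1 : g ^ e ∈ φ.ker := by
      rw [MonoidHom.mem_ker, map_pow, ← hog, pow_orderOf_eq_one]
    have h2 : (⟨g ^ e, h1⟩ : φ.ker) ^ p = 1 := by
      rw [← hcardker]
      exact pow_card_eq_one'
    have h3 : (g ^ e) ^ p = 1 := by simpa using congrArg Subtype.val h2
    rw [hw, ← pow_mul, mul_comm, pow_mul, h3]
  have how : orderOf w = e := by
    apply Nat.dvd_antisymm (orderOf_dvd_of_pow_eq_one hwe)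
    rw [← hφw]
    exact orderOf_map_dvd φ w
  refine ⟨(w : G), w.2, ?_, ?_, ?_⟩
  · rw [Subgroup.orderOf_coe, how, hcardN]
  · rw [Subgroup.orderOf_coe, how]
    exact hedvd
  · intro n hn
    -- φ w generates the range
    have hzw : Subgroup.zpowers (φ w) = φ.range := by
      apply Subgroup.eq_of_le_of_card_ge
      · rw [Subgroup.zpowers_le]
        exact ⟨w, rfl⟩
      · rw [Nat.card_zpowers, hφw]
    have h1 : φ ⟨n, hn⟩ ∈ Subgroup.zpowers (φ w) := by
      rw [hzw]
      exact ⟨_, rfl⟩
    obtain ⟨k, hk⟩ := Subgroup.mem_zpowers_iff.mp h1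
    have h2 : (⟨n, hn⟩ : N) * (w ^ k)⁻¹ ∈ φ.ker := by
      rw [MonoidHom.mem_ker, map_mul, map_inv, map_zpow, hk, mul_inv_cancel]
    refine ⟨n * ((w : G) ^ k)⁻¹, ?_, (w : G) ^ k, Subgroup.zpow_mem_zpowers _ k, by group⟩
    have := (hker _).mp h2
    simpa using this

end Cfsg.Agent.Lib.Helper67.BR
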