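import Mathlib

set_option autoImplicit false

/-! Rung PAIRS of the ladder BR. -/

namespace Cfsg.Agent.Lib.Helper67.BR

theorem fibre_count {G : Type*} [Group G] [Fintype G] [DecidableEq G] (w j : G) [Decidable (IsConj w j)] :
    ∑ a : G, (if a * w * a⁻¹ = j then (1 : ℂ) else 0) =
      if IsConj w j then (Nat.card (Subgroup.centralizer ({w} : Set G)) : ℂ) else 0 := by
  classical
  split_ifs with h
  · obtain ⟨c, rfl⟩ := isConj_iff.mp h
    rw [Finset.sum_boole, Nat.card_eq_fintype_card, Fintype.card_subtype]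
    congr 1
    apply Finset.card_bij (fun a _ => c⁻¹ * a)
    · intro a ha
      simp only [Finset.mem_filter, Finset.mem_univ, true_and] at ha ⊢
      rw [Subgroup.mem_centralizer_singleton_iff]
      have : c⁻¹ * (a * w * a⁻¹) * c = w := by rw [ha]; group
      calc c⁻¹ * a * w = c⁻¹ * (a * w * a⁻¹) * c * (c⁻¹ * a) := by group
        _ = w * (c⁻¹ * a) := by rw [this]
    · intro a _ b _ hab
      exact mul_left_cancel hab
    · intro b hb
      simp only [Finset.mem_filter, Finset.mem_univ, true_and] at hb ⊢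
      rw [Subgroup.mem_centralizer_singleton_iff] at hb
      refine ⟨c * b, ?_, by group⟩
      calc c * b * w * (c * b)⁻¹ = c * (b * w) * b⁻¹ * c⁻¹ := by group
        _ = c * w * c⁻¹ := by rw [hb]; group
  · apply Finset.sum_eq_zero
    intro a _
    rw [if_neg]
    intro ha
    exact h (isConj_iff.mpr ⟨a, ha⟩)

theorem pairs_count {G : Type*} [Group G] [Fintype G] [DecidableEq G] (w : G) :
    ∑ a : G, ∑ b : G, (if a * w * a⁻¹ * (b * w * b⁻¹) = w then (1 : ℂ) else 0) =
      (Nat.card (Subgroup.centralizer ({w} : Set G)) : ℂ) ^ 2 *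
        (Nat.card {i : G // IsConj w i ∧ IsConj w (i⁻¹ * w)} : ℂ) := by
  classical
  set C : ℂ := (Nat.card (Subgroup.centralizer ({w} : Set G)) : ℂ) with hC
  have h1 : ∀ a : G, ∑ b : G, (if a * w * a⁻¹ * (b * w * b⁻¹) = w then (1 : ℂ) else 0)
      = if IsConj w ((a * w * a⁻¹)⁻¹ * w) then C else 0 := by
    intro a
    rw [← fibre_count]
    apply Finset.sum_congr rfl
    intro b _
    congr 1
    rw [eq_iff_iff]
    constructor
    · intro h
      rw [eq_inv_mul_iff_mul_eq]
      exact h
    · intro h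
      rw [h]; group
  simp only [h1]
  have h2 : ∀ a : G, (if IsConj w ((a * w * a⁻¹)⁻¹ * w) then C else 0)
      = ∑ i : G, (if a * w * a⁻¹ = i then (1 : ℂ) else 0) * (if IsConj w (i⁻¹ * w) then C else 0) := by
    intro a
    rw [Finset.sum_eq_single (a * w * a⁻¹)]
    · simp
    · intro b _ hb
      rw [if_neg (Ne.symm hb), zero_mul]
    · intro h
      exact absurd (Finset.mem_univ _) h
  simp only [h2]
  rw [Finset.sum_comm]
  simp only [← Finset.sum_mul, fibre_count]
  rw [← hC]
  rw [Nat.card_eq_fintype_card, Fintype.card_subtype]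
  have h3 : ∀ i : G, (if IsConj w i then C else 0) * (if IsConj w (i⁻¹ * w) then C else 0)
      = C ^ 2 * (if IsConj w i ∧ IsConj w (i⁻¹ * w) then (1 : ℂ) else 0) := by
    intro i
    by_cases h1 : IsConj w i
    · by_cases h2 : IsConj w (i⁻¹ * w)
      · rw [if_pos h1, if_pos h2, if_pos ⟨h1, h2⟩, sq, mul_one]
      · have h3 : ¬ (IsConj w i ∧ IsConj w (i⁻¹ * w)) := fun h => h2 h.2
        rw [if_neg h2, if_neg h3, mul_zero, mul_zero]
    · have h3 : ¬ (IsConj w i ∧ IsConj w (i⁻¹ * w)) := fun h => h1 h.1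
      rw [if_neg h1, if_neg h3, mul_zero, zero_mul]
  simp only [h3]
  rw [← Finset.mul_sum, Finset.sum_boole]

end Cfsg.Agent.Lib.Helper67.BR
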