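import Mathlib
import Cfsg.Agent.Lib.Helper78.SelfCent

set_option autoImplicit false

/-! Rung SING of the ladder BR. -/

namespace Cfsg.Agent.Lib.Helper67.BR

open Cfsg.Agent.Lib.Helper78

theorem sing_conj {G : Type*} [Group G] [Finite G] (p : ℕ) [Fact p.Prime] (z : G) (hz : orderOf z = p)
    (hC : Subgroup.centralizer ({z} : Set G) = Subgroup.zpowers z) (g : G) (hg : p ∣ orderOf g) :
    ∃ a : G, ∃ x ∈ Subgroup.zpowers z, x ≠ 1 ∧ g = a * x * a⁻¹ := by
  have hp : p.Prime := Fact.out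
  obtain ⟨m, hm⟩ := hg
  set h := g ^ m with hh
  have hgpos : 0 < orderOf g := orderOf_pos g
  have hm0 : 0 < m := by
    rcases Nat.eq_zero_or_pos m with h0 | h0
    · rw [h0, mul_zero] at hm; omega
    · exact h0
  have hho : orderOf h = p := by
    rw [hh, orderOf_pow_of_dvd hm0.ne' ⟨p, by rw [hm, mul_comm]⟩, hm]
    exact Nat.mul_div_cancel _ hm0
  obtain ⟨a, ha⟩ := sc_pgroup_conj hp hz hC (Subgroup.zpowers h) (sc_isPGroup_zpowers hp hho)
  have h1 := ha h (Subgroup.mem_zpowers h)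
  have h1ne : a⁻¹ * h * a ≠ 1 := by
    intro h2
    have : h = 1 := by
      have : h = a * (a⁻¹ * h * a) * a⁻¹ := by group
      rw [this, h2]; group
    exact sc_ne_one hp hho this
  have h2 := sc_zpowers_eq_of_mem hp hz h1 h1ne
  -- a⁻¹ g a commutes with a⁻¹ h a hence with z
  have hcomm : (a⁻¹ * g * a) * (a⁻¹ * h * a) = (a⁻¹ * h * a) * (a⁻¹ * g * a) := by
    have : g * h = h * g := by rw [hh, ← pow_succ', ← pow_succ]
    calc (a⁻¹ * g * a) * (a⁻¹ * h * a) = a⁻¹ * (g * h) * a := by group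
      _ = a⁻¹ * (h * g) * a := by rw [this]
      _ = _ := by group
  have hzmem : z ∈ Subgroup.zpowers (a⁻¹ * h * a) := by rw [h2]; exact Subgroup.mem_zpowers z
  obtain ⟨k, hk⟩ := Subgroup.mem_zpowers_iff.mp hzmem
  have hcz : (a⁻¹ * g * a) * z = z * (a⁻¹ * g * a) := by
    rw [← hk]
    exact (Commute.zpow_right (show Commute _ _ from hcomm) k)
  refine ⟨a, a⁻¹ * g * a, sc_mem_zpowers_of_commute hC hcz, ?_, by group⟩
  intro h3
  have : g = 1 := by
    have : g = a * (a⁻¹ * g * a) * a⁻¹ := by group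
    rw [this, h3]; group
  rw [this, orderOf_one] at hm
  have := hp.two_le
  rcases Nat.eq_zero_or_pos m with h0 | h0
  · rw [h0] at hm; omega
  · nlinarith

end Cfsg.Agent.Lib.Helper67.BR
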