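import Mathlib
import Cfsg.Prelude.Def_Transfer
import Cfsg.Agent.Lib.Helper67.Extraspecial

set_option autoImplicit false

namespace Cfsg.Agent.Lib.Helper67

variable {S : Type*} [Group S]

open scoped commutatorElement

/-- centre of a subgroup, inside the ambient group -/
theorem map_center_eq (Q : Subgroup S) :
    (Subgroup.center ↥Q).map Q.subtype = Q ⊓ Subgroup.centralizer (Q : Set S) := by
  ext z
  constructor
  · rintro ⟨w, hw, rfl⟩
    refine Subgroup.mem_inf.2 ⟨w.2, ?_⟩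
    rw [Subgroup.mem_centralizer_iff]
    intro q hq
    exact congrArg Subtype.val (Subgroup.mem_center_iff.1 hw ⟨q, hq⟩)
  · intro hz
    obtain ⟨hzQ, hzc⟩ := Subgroup.mem_inf.1 hz
    refine ⟨⟨z, hzQ⟩, ?_, rfl⟩
    rw [SetLike.mem_coe, Subgroup.mem_center_iff]
    intro q
    exact Subtype.ext (Subgroup.mem_centralizer_iff.1 hzc q q.2)

theorem card_map_center (Q : Subgroup S) :
    Nat.card ((Subgroup.center ↥Q).map Q.subtype) = Nat.card (Subgroup.center ↥Q) :=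
  Subgroup.card_map_of_injective Q.subtype_injective

theorem es_card_Z {p : ℕ} {Q : Subgroup S} (hQ : Cfsg.IsExtraspecial p ↥Q) :
    Nat.card ↥(Q ⊓ Subgroup.centralizer (Q : Set S)) = p := by
  rw [← map_center_eq, card_map_center, hQ.2]

theorem es_comm_mem {p : ℕ} {Q : Subgroup S} (hQ : Cfsg.IsExtraspecial p ↥Q) :
    ∀ a ∈ Q, ∀ b ∈ Q, a * b * a⁻¹ * b⁻¹ ∈ Q ⊓ Subgroup.centralizer (Q : Set S) := by
  intro a ha b hb
  rw [← map_center_eq, ← hQ.1.2.2]
  refine ⟨⁅(⟨a, ha⟩ : ↥Q), (⟨b, hb⟩ : ↥Q)⁆, ?_, ?_⟩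
  · rw [commutator_def]
    exact Subgroup.commutator_mem_commutator (Subgroup.mem_top _) (Subgroup.mem_top _)
  · simp [commutatorElement_def]

theorem es_cent {Q : Subgroup S} :
    ∀ z ∈ Q ⊓ Subgroup.centralizer (Q : Set S), ∀ q ∈ Q, q * z = z * q := by
  intro z hz q hq
  exact Subgroup.mem_centralizer_iff.1 (Subgroup.mem_inf.1 hz).2 q hq

theorem es_nonabelian {p : ℕ} [Fact p.Prime] {Q : Subgroup S} (hQ : Cfsg.IsExtraspecial p ↥Q) :
    ∃ a ∈ Q, ∃ b ∈ Q, a * b ≠ b * a := by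
  by_contra hcon
  push Not at hcon
  have hp : p.Prime := Fact.out
  have h1 : Subgroup.center ↥Q = ⊤ := by
    rw [eq_top_iff]
    intro z _
    rw [Subgroup.mem_center_iff]
    intro q
    exact Subtype.ext (hcon q q.2 z z.2)
  have h2 := (commutator_eq_bot_iff_center_eq_top ↥Q).2 h1
  rw [hQ.1.2.2] at h2
  have h3 := hQ.2
  rw [h2] at h3
  simp at h3
  exact hp.one_lt.ne h3

/-- subgroup of index `p` in a finite `p`-group is normal -/
theorem normal_of_index_eq_p [Finite S] {p : ℕ} [Fact p.Prime] (hS : IsPGroup p S) {Q : Subgroup S}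
    (hQi : Q.index = p) : Q.Normal := by
  have hp : p.Prime := Fact.out
  apply Subgroup.normal_of_index_eq_minFac_card
  obtain ⟨k, hk⟩ := IsPGroup.iff_card.1 hS
  rw [hQi, hk]
  have hk0 : k ≠ 0 := by
    rintro rfl
    have h1 : Q.index ∣ Nat.card S := Subgroup.index_dvd_card Q
    rw [hk, hQi, pow_zero] at h1
    exact hp.one_lt.ne' (Nat.dvd_one.1 h1)
  exact (hp.pow_minFac hk0).symm

theorem sup_eq_top_of_index_prime {p : ℕ} [Fact p.Prime] {Q L : Subgroup S} (hQi : Q.index = p)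
    (hL : ¬ L ≤ Q) : Q ⊔ L = ⊤ := by
  apply eq_of_relIndex_prime (p := p) Fact.out (le_sup_left : Q ≤ Q ⊔ L) le_top
  · rw [Subgroup.relIndex_top_right, hQi]
  · intro h
    exact hL (le_sup_right.trans h)

theorem comm_pow {H Z : Subgroup S} (hcomm : ∀ a ∈ H, ∀ b ∈ H, a * b * a⁻¹ * b⁻¹ ∈ Z)
    (hcent : ∀ z ∈ Z, ∀ h ∈ H, h * z = z * h) {a x : S} (ha : a ∈ H) (hx : x ∈ H) (k : ℕ) :
    a ^ k * x * (a ^ k)⁻¹ * x⁻¹ = (a * x * a⁻¹ * x⁻¹) ^ k := by
  induction k with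
  | zero => simp
  | succ k ih =>
    have hc : (a * x * a⁻¹ * x⁻¹) ^ k ∈ Z := Z.pow_mem (hcomm a ha x hx) k
    have e1 := hcent _ hc a ha
    calc a ^ (k + 1) * x * (a ^ (k + 1))⁻¹ * x⁻¹
        = a * (a ^ k * x * (a ^ k)⁻¹ * x⁻¹) * (x * a⁻¹ * x⁻¹) := by
          rw [pow_succ']; group
      _ = a * (a * x * a⁻¹ * x⁻¹) ^ k * (x * a⁻¹ * x⁻¹) := by rw [ih]
      _ = (a * x * a⁻¹ * x⁻¹) ^ k * a * (x * a⁻¹ * x⁻¹) := by rw [e1]
      _ = (a * x * a⁻¹ * x⁻¹) ^ k * (a * x * a⁻¹ * x⁻¹) := by group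
      _ = _ := (pow_succ _ _).symm

/-- `p`-th powers in an extraspecial subgroup are central in it -/
theorem es_pow_mem {p : ℕ} {Q : Subgroup S} (hQ : Cfsg.IsExtraspecial p ↥Q) {y : S} (hy : y ∈ Q) :
    y ^ p ∈ Q ⊓ Subgroup.centralizer (Q : Set S) := by
  refine Subgroup.mem_inf.2 ⟨Q.pow_mem hy p, ?_⟩
  rw [Subgroup.mem_centralizer_iff]
  intro q hq
  have h1 := comm_pow (es_comm_mem hQ) es_cent hy hq p
  have h2 : (y * q * y⁻¹ * q⁻¹) ^ p = 1 := by
    have h3 := es_comm_mem hQ y hy q hq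
    have h4 : (⟨_, h3⟩ : ↥(Q ⊓ Subgroup.centralizer (Q : Set S))) ^ p = 1 := by
      rw [← es_card_Z hQ]; exact pow_card_eq_one'
    exact congrArg Subtype.val h4
  rw [h2] at h1
  have := congrArg (fun t => t * q * y ^ p) h1
  simpa [mul_assoc] using this.symm

theorem es_Z_pow {p : ℕ} {Q : Subgroup S} (hQ : Cfsg.IsExtraspecial p ↥Q) {z : S}
    (hz : z ∈ Q ⊓ Subgroup.centralizer (Q : Set S)) : z ^ p = 1 := by
  have h4 : (⟨_, hz⟩ : ↥(Q ⊓ Subgroup.centralizer (Q : Set S))) ^ p = 1 := by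
    rw [← es_card_Z hQ]; exact pow_card_eq_one'
  exact congrArg Subtype.val h4

theorem pow_mem_of_index_eq [Finite S] {p : ℕ} {Q : Subgroup S} [Q.Normal] (hQi : Q.index = p) (x : S) :
    x ^ p ∈ Q := by
  rw [← QuotientGroup.eq_one_iff, QuotientGroup.mk_pow, ← hQi, Subgroup.index_eq_card]
  exact pow_card_eq_one'

theorem commutator_le_of_index_prime [Finite S] {p : ℕ} [Fact p.Prime] {Q : Subgroup S} [Q.Normal]
    (hQi : Q.index = p) : commutator S ≤ Q := by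
  apply Subgroup.Normal.quotient_commutative_iff_commutator_le.1
  have hc : Nat.card (S ⧸ Q) = p := by rw [← Subgroup.index_eq_card, hQi]
  have : IsCyclic (S ⧸ Q) := isCyclic_of_prime_card hc
  exact ⟨⟨fun a b => IsCyclic.commGroup.mul_comm a b⟩⟩

end Cfsg.Agent.Lib.Helper67
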