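import Mathlib
import Cfsg.Agent.Lib.Helper61.ONSDefs
import Cfsg.Agent.Lib.Helper67.ONSAut

set_option autoImplicit false

namespace Cfsg.Agent.Lib.Helper67.ONS

open Cfsg.Agent.Lib.Helper61.ONS

universe u v

variable {T : Type u} [Group T] [IsSimpleGroup T] {m : ℕ}

omit [IsSimpleGroup T] in
theorem spec_one : Spec (1 : MulAut (Fin m → T)) 1 (fun _ => MulEquiv.refl T) := fun _ _ => rfl

omit [IsSimpleGroup T] in
theorem spec_mul {φ₁ φ₂ : MulAut (Fin m → T)} {π₁ π₂ : Equiv.Perm (Fin m)}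
    {α₁ α₂ : Fin m → (T ≃* T)} (h₁ : Spec φ₁ π₁ α₁) (h₂ : Spec φ₂ π₂ α₂) :
    Spec (φ₁ * φ₂) (π₁ * π₂) (fun k => (α₂ k).trans (α₁ (π₂ k))) := by
  intro f k
  show φ₁ (φ₂ f) (π₁ (π₂ k)) = α₁ (π₂ k) (α₂ k (f k))
  rw [h₁, h₂]

/-- TR -/
theorem trans_coord (hT : ¬ IsMulCommutative T) {Γ : Type v} [Group Γ]
    (ψ : Γ →* MulAut (Fin m → T))
    (hmin : ∀ M : Subgroup (Fin m → T), M.Normal → (∀ γ, ∀ y ∈ M, ψ γ y ∈ M) → M = ⊥ ∨ M = ⊤)
    (i j : Fin m) : ∃ (γ : Γ) (π : Equiv.Perm (Fin m)) (α : Fin m → (T ≃* T)),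
      Spec (ψ γ) π α ∧ π i = j := by
  classical
  let O : Set (Fin m) := {j | ∃ (γ : Γ) (π : Equiv.Perm (Fin m)) (α : Fin m → (T ≃* T)),
      Spec (ψ γ) π α ∧ π i = j}
  have hiO : i ∈ O := ⟨1, 1, fun _ => MulEquiv.refl T, by rw [map_one]; exact spec_one, rfl⟩
  let M : Subgroup (Fin m → T) :=
    { carrier := {f | ∀ l, l ∉ O → f l = 1}
      mul_mem' := by
        intro a b ha hb l hl
        rw [Pi.mul_apply, ha l hl, hb l hl, one_mul]
      one_mem' := fun _ _ => rfl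
      inv_mem' := by
        intro a ha l hl
        rw [Pi.inv_apply, ha l hl, inv_one] }
  have hMn : M.Normal := by
    constructor
    intro f hf g l hl
    rw [Pi.mul_apply, Pi.mul_apply, hf l hl, Pi.inv_apply, mul_one, mul_inv_cancel]
  have hMinv : ∀ γ, ∀ y ∈ M, ψ γ y ∈ M := by
    intro γ f hf l hl
    obtain ⟨π, α, hsp⟩ := aut_pi hT (ψ γ)
    obtain ⟨l', rfl⟩ := π.surjective l
    rw [hsp]
    have : l' ∉ O := by
      rintro ⟨γ', π', α', hsp', hπ'⟩
      apply hl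
      refine ⟨γ * γ', π * π', fun k => (α' k).trans (α (π' k)), ?_, ?_⟩
      · rw [map_mul]
        exact spec_mul hsp hsp'
      · rw [Equiv.Perm.mul_apply, hπ']
    rw [hf l' this, map_one]
  obtain ⟨s, hs⟩ := exists_ne (1 : T)
  rcases hmin M hMn hMinv with h0 | h0
  · exfalso
    have : Pi.mulSingle i s ∈ M := by
      intro l hl
      have : l ≠ i := fun h => hl (h ▸ hiO)
      show (Pi.mulSingle i s : Fin m → T) l = 1
      rw [Pi.mulSingle_eq_of_ne this]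
    rw [h0, Subgroup.mem_bot] at this
    apply hs
    have h2 := congrFun this i
    simpa using h2
  · by_contra hj
    have hj' : j ∉ O := hj
    have : Pi.mulSingle j s ∈ M := by rw [h0]; trivial
    have h2 := this j hj'
    rw [Pi.mulSingle_eq_same] at h2
    exact hs h2

end Cfsg.Agent.Lib.Helper67.ONS
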