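import Mathlib
import Cfsg.Agent.Lib.Helper61.ONSDefs
import Cfsg.Agent.Lib.Helper67.ONSTr
import Cfsg.Agent.Lib.Helper67.ONSSc3

set_option autoImplicit false

namespace Cfsg.Agent.Lib.Helper67.ONS

open Cfsg.Agent.Lib.Helper61.ONS

universe u v

variable {T : Type u} [Group T] [IsSimpleGroup T] {m : ℕ}

omit [IsSimpleGroup T] in
theorem linked_spec_iff {Γ : Type v} [Group Γ] (ψ : Γ →* MulAut (Fin m → T))
    (X : Subgroup (Fin m → T)) (hinv : ∀ γ, ∀ x ∈ X, ψ γ x ∈ X) {γ : Γ}
    {π : Equiv.Perm (Fin m)} {α : Fin m → (T ≃* T)} (hsp : Spec (ψ γ) π α) (a b : Fin m) :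
    Linked X a b ↔ Linked X (π a) (π b) := by
  constructor
  · intro h x hx hx1
    have hy : ψ γ⁻¹ x ∈ X := hinv _ x hx
    have hxy : ψ γ (ψ γ⁻¹ x) = x := by
      rw [← MulAut.mul_apply, ← map_mul, mul_inv_cancel, map_one]; rfl
    rw [← hxy, hsp] at hx1
    have h1 : (ψ γ⁻¹ x) a = 1 := (map_eq_one_iff (α a) (α a).injective).1 hx1
    rw [← hxy, hsp, h _ hy h1, map_one]
  · intro h y hy hy1
    have hx : ψ γ y ∈ X := hinv _ y hy
    have h1 : ψ γ y (π a) = 1 := by rw [hsp, hy1, map_one]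
    have h2 := h _ hx h1
    rw [hsp] at h2
    exact (map_eq_one_iff (α b) (α b).injective).1 h2

/-- DIAG -/
theorem diag_case (hT : ¬ IsMulCommutative T) {Γ : Type v} [Group Γ]
    (ψ : Γ →* MulAut (Fin m → T)) (X : Subgroup (Fin m → T))
    (hinv : ∀ γ, ∀ x ∈ X, ψ γ x ∈ X) (hne : X ≠ ⊤)
    (hmin : ∀ M : Subgroup (Fin m → T), M.Normal → (∀ γ, ∀ y ∈ M, ψ γ y ∈ M) → M = ⊥ ∨ M = ⊤)
    (hs : Subdirect X) :
    ∃ (e : (Fin m → T) ≃* (Fin m → T)) (k : ℕ) (c : Fin m → Fin m), 2 ≤ k ∧
      (∀ j, Nat.card {i // c i = j} = k ∨ Nat.card {i // c i = j} = 0) ∧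
      ∀ f, f ∈ X ↔ ∀ i j, c i = c j → e f i = e f j := by
  classical
  obtain ⟨c, β, hcc, hcl, hβ, hX⟩ := scott hT X hs
  obtain ⟨i0⟩ : Nonempty (Fin m) := by
    by_contra hemp
    rw [not_nonempty_iff] at hemp
    apply hne
    rw [eq_top_iff]
    intro f _
    have : f = 1 := Subsingleton.elim _ _
    rw [this]; exact X.one_mem
  let e : (Fin m → T) ≃* (Fin m → T) := MulEquiv.piCongrRight (fun i => (β i).symm)
  have he : ∀ f i, e f i = (β i).symm (f i) := fun f i => rfl
  have hcard : ∀ j j', c j = j → c j' = j' →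
      Nat.card {i // c i = j} = Nat.card {i // c i = j'} := by
    intro j j' hj hj'
    obtain ⟨γ, π, α, hsp, hπ⟩ := trans_coord hT ψ hmin j j'
    apply Nat.card_congr
    apply Equiv.subtypeEquiv π
    intro a
    calc c a = j ↔ c a = c j := by rw [hj]
      _ ↔ Linked X a j := hcl a j
      _ ↔ Linked X (π a) (π j) := linked_spec_iff ψ X hinv hsp a j
      _ ↔ c (π a) = c j' := by rw [hπ]; exact (hcl _ _).symm
      _ ↔ c (π a) = j' := by rw [hj']
  refine ⟨e, Nat.card {i // c i = c i0}, c, ?_, ?_, ?_⟩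
  · by_contra hlt
    push Not at hlt
    have hone : ∀ j, c j = j → Nat.card {i // c i = j} ≤ 1 := by
      intro j hj
      rw [hcard j (c i0) hj (hcc i0)]
      omega
    have hid : ∀ i, c i = i := by
      intro i
      have h1 := hone (c i) (hcc i)
      rw [Finite.card_le_one_iff_subsingleton] at h1
      have := h1.elim ⟨i, rfl⟩ ⟨c i, hcc i⟩
      exact (congrArg Subtype.val this).symm
    apply hne
    rw [eq_top_iff]
    intro f _
    rw [hX]
    intro i
    rw [hβ i (hid i), hid i]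
    rfl
  · intro j
    by_cases hj : c j = j
    · left
      exact hcard j (c i0) hj (hcc i0)
    · right
      haveI : IsEmpty {i // c i = j} := by
        constructor
        rintro ⟨i, hi⟩
        apply hj
        rw [← hi, hcc]
      exact Nat.card_of_isEmpty
  · intro f
    rw [hX]
    constructor
    · intro h i j hij
      have key : ∀ i, e f i = f (c i) := by
        intro i
        rw [he, h i, MulEquiv.symm_apply_apply]
      rw [key, key, hij]
    · intro h i
      have h1 := h i (c i) (hcc i).symm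
      rw [he, he, hβ (c i) (hcc i)] at h1
      have h2 : (β i).symm (f i) = f (c i) := h1
      rw [← h2, MulEquiv.apply_symm_apply]

end Cfsg.Agent.Lib.Helper67.ONS
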