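import Mathlib
import Cfsg.Agent.Lib.Helper61.ONSDefs
import Cfsg.Agent.Lib.Helper67.ONSTr

set_option autoImplicit false

namespace Cfsg.Agent.Lib.Helper67.ONS

open Cfsg.Agent.Lib.Helper61.ONS

universe u v

variable {T : Type u} [Group T] [IsSimpleGroup T] {m : ℕ}

/-- PROD -/
theorem prod_case (hT : ¬ IsMulCommutative T) {Γ : Type v} [Group Γ]
    (ψ : Γ →* MulAut (Fin m → T)) (X : Subgroup (Fin m → T))
    (hinv : ∀ γ, ∀ x ∈ X, ψ γ x ∈ X)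
    (hmax : ∀ Y : Subgroup (Fin m → T), X ≤ Y → (∀ γ, ∀ y ∈ Y, ψ γ y ∈ Y) → Y = X ∨ Y = ⊤)
    (hmin : ∀ M : Subgroup (Fin m → T), M.Normal → (∀ γ, ∀ y ∈ M, ψ γ y ∈ M) → M = ⊥ ∨ M = ⊤)
    (hns : ¬ Subdirect X) :
    ∃ K : Fin m → Subgroup T, (∀ i, K i ≠ ⊤) ∧ ∀ f, f ∈ X ↔ ∀ i, f i ∈ K i := by
  classical
  let R : Fin m → Subgroup T := fun i => X.map (Pi.evalMonoidHom (fun _ : Fin m => T) i)
  have hR : ∀ i t, t ∈ R i ↔ ∃ x ∈ X, x i = t := fun i t => Iff.rfl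
  unfold Subdirect at hns
  push Not at hns
  obtain ⟨i0, t0, h0⟩ := hns
  have ht0 : t0 ∉ R i0 := by
    rintro ⟨x, hx, hxt⟩
    exact h0 x hx hxt
  have hRne : ∀ i, R i ≠ ⊤ := by
    intro i hi
    obtain ⟨γ, π, α, hsp, hπ⟩ := trans_coord hT ψ hmin i i0
    apply ht0
    have : (α i).symm t0 ∈ R i := by rw [hi]; trivial
    obtain ⟨y, hy, hyi⟩ := this
    have hyi' : y i = (α i).symm t0 := hyi
    refine ⟨ψ γ y, hinv γ y hy, ?_⟩
    show ψ γ y i0 = t0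
    rw [← hπ, hsp, hyi', MulEquiv.apply_symm_apply]
  let Y : Subgroup (Fin m → T) :=
    { carrier := {f | ∀ i, f i ∈ R i}
      mul_mem' := fun ha hb i => (R i).mul_mem (ha i) (hb i)
      one_mem' := fun i => (R i).one_mem
      inv_mem' := fun ha i => (R i).inv_mem (ha i) }
  have hXY : X ≤ Y := fun x hx i => ⟨x, hx, rfl⟩
  have hYinv : ∀ γ, ∀ y ∈ Y, ψ γ y ∈ Y := by
    intro γ f hf l
    obtain ⟨π, α, hsp⟩ := aut_pi hT (ψ γ)
    obtain ⟨l', rfl⟩ := π.surjective l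
    obtain ⟨x, hx, hxl⟩ := hf l'
    have hxl' : x l' = f l' := hxl
    refine ⟨ψ γ x, hinv γ x hx, ?_⟩
    show ψ γ x (π l') = ψ γ f (π l')
    rw [hsp, hsp, hxl']
  have hYne : Y ≠ ⊤ := by
    intro h
    apply ht0
    have : Pi.mulSingle i0 t0 ∈ Y := by rw [h]; trivial
    have h2 := this i0
    rwa [Pi.mulSingle_eq_same] at h2
  have hYX : Y = X := (hmax Y hXY hYinv).resolve_right hYne
  refine ⟨R, hRne, fun f => ?_⟩
  rw [← hYX]
  exact Iff.rfl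

end Cfsg.Agent.Lib.Helper67.ONS
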