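import Mathlib

set_option autoImplicit false
set_option linter.unusedSectionVars false
set_option linter.style.haveILetI false

/-! Rung L7 of the ladder REE: centraliser of an element of order `p` of `GL_7(q)`, where `q` has
order `6` modulo `p`. -/

namespace Cfsg.Agent.Lib.Helper67.Ree

open Matrix

variable {K : Type*} [Field K] [Fintype K]

/-- the data -/
structure Dat (K : Type*) [Field K] [Fintype K] (p : ℕ) (X : Matrix (Fin 7) (Fin 7) K) : Prop where
  hp : p.Prime
  hord : ∀ d, 1 ≤ d → d ≤ 7 → p ∣ Fintype.card K ^ d - 1 → d = 6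
  hpK : (p : K) ≠ 0
  hXp : X ^ p = 1
  hX1 : X ≠ 1

/-- the projection onto the fixed vectors -/
noncomputable def EE (p : ℕ) (X : Matrix (Fin 7) (Fin 7) K) : Matrix (Fin 7) (Fin 7) K :=
  (p : K)⁻¹ • ∑ i ∈ Finset.range p, X ^ i

variable {p : ℕ} {X : Matrix (Fin 7) (Fin 7) K}

theorem X_mul_E (D : Dat K p X) : X * EE p X = EE p X := by
  have := mul_geom_sum X p
  rw [D.hXp, sub_self, sub_mul, one_mul, sub_eq_zero] at this
  rw [EE, Matrix.mul_smul, this]

theorem comm_E {a : Matrix (Fin 7) (Fin 7) K} (h : a * X = X * a) : a * EE p X = EE p X * a := by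
  have h1 : Commute a X := h
  have h2 : Commute a (∑ i ∈ Finset.range p, X ^ i) :=
    Commute.sum_right _ _ _ (fun i _ => h1.pow_right i)
  exact (h2.smul_right _)

theorem E_mul_X (D : Dat K p X) : EE p X * X = EE p X := by
  rw [← comm_E (p := p) (rfl : X * X = X * X), X_mul_E D]

theorem pow_mul_E (D : Dat K p X) (i : ℕ) : X ^ i * EE p X = EE p X := by
  induction i with
  | zero => simp
  | succ i ih => rw [pow_succ, mul_assoc, X_mul_E D, ih]

theorem E_mul_E (D : Dat K p X) : EE p X * EE p X = EE p X := by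
  show ((p : K)⁻¹ • ∑ i ∈ Finset.range p, X ^ i) * EE p X = EE p X
  rw [Matrix.smul_mul, Finset.sum_mul]
  simp only [pow_mul_E D, Finset.sum_const, Finset.card_range]
  rw [← Nat.cast_smul_eq_nsmul K, smul_smul, inv_mul_cancel₀ D.hpK, one_smul]

theorem E_fixed (D : Dat K p X) {v : Fin 7 → K} (hv : X.mulVec v = v) : (EE p X).mulVec v = v := by
  have h1 : ∀ i : ℕ, (X ^ i).mulVec v = v := by
    intro i
    induction i with
    | zero => simp
    | succ i ih => rw [pow_succ, ← Matrix.mulVec_mulVec, hv, ih]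
  rw [EE, Matrix.smul_mulVec, Matrix.sum_mulVec]
  simp only [h1, Finset.sum_const, Finset.card_range]
  rw [← Nat.cast_smul_eq_nsmul K, smul_smul, inv_mul_cancel₀ D.hpK, one_smul]

/-- the complement of the fixed vectors -/
noncomputable def WW (p : ℕ) (X : Matrix (Fin 7) (Fin 7) K) : Submodule K (Fin 7 → K) :=
  LinearMap.ker (Matrix.mulVecLin (EE p X))

theorem mem_WW {v : Fin 7 → K} : v ∈ WW p X ↔ (EE p X).mulVec v = 0 := Iff.rfl

theorem inv_WW {a : Matrix (Fin 7) (Fin 7) K} (h : a * X = X * a) {v : Fin 7 → K}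
    (hv : v ∈ WW p X) : a.mulVec v ∈ WW p X := by
  rw [mem_WW] at hv ⊢
  rw [Matrix.mulVec_mulVec, ← comm_E h, ← Matrix.mulVec_mulVec, hv, Matrix.mulVec_zero]

theorem sub_E_mem (D : Dat K p X) (v : Fin 7 → K) : v - (EE p X).mulVec v ∈ WW p X := by
  rw [mem_WW, Matrix.mulVec_sub, Matrix.mulVec_mulVec, E_mul_E D, sub_self]

/-- a matrix killing the fixed vectors and their complement is zero -/
theorem eq_zero_of (D : Dat K p X) {c : Matrix (Fin 7) (Fin 7) K} (h1 : c * EE p X = 0)
    (h2 : ∀ w ∈ WW p X, c.mulVec w = 0) : c = 0 := by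
  apply Matrix.mulVec_injective
  funext v
  have h3 := h2 _ (sub_E_mem D v)
  rw [Matrix.mulVec_sub, Matrix.mulVec_mulVec, h1, Matrix.zero_mulVec, sub_zero] at h3
  rw [h3, Matrix.zero_mulVec]

/-- dimension of an invariant subspace without fixed vectors -/
theorem finrank_of_free (D : Dat K p X) (W : Submodule K (Fin 7 → K))
    (hW : ∀ w ∈ W, X.mulVec w ∈ W) (hfree : ∀ w ∈ W, X.mulVec w = w → w = 0) :
    Module.finrank K W = 0 ∨ Module.finrank K W = 6 := by
  classical
  haveI : Fact p.Prime := ⟨D.hp⟩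
  let f : Function.End W := fun w => ⟨X.mulVec w.1, hW _ w.2⟩
  have hpow : ∀ (n : ℕ) (w : W), ((f ^ n) w).1 = (X ^ n).mulVec w.1 := by
    intro n
    induction n with
    | zero => intro w; rw [pow_zero, pow_zero, Matrix.one_mulVec]; rfl
    | succ n ih =>
      intro w
      rw [pow_succ', pow_succ', ← Matrix.mulVec_mulVec, ← ih]
      rfl
  have hfs : f ^ p ^ 1 = 1 := by
    funext w
    apply Subtype.ext
    rw [pow_one, hpow, D.hXp, Matrix.one_mulVec]
    rfl
  haveI := Fintype.ofFinite W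
  have h1 := Equiv.Perm.card_fixedPoints_modEq hfs
  have hfix : Fintype.card (Function.fixedPoints f) = 1 := by
    rw [Fintype.card_eq_one_iff]
    refine ⟨⟨0, ?_⟩, ?_⟩
    · show f 0 = 0
      apply Subtype.ext
      exact Matrix.mulVec_zero X
    · rintro ⟨w, hw⟩
      apply Subtype.ext
      apply Subtype.ext
      have hw' : X.mulVec w.1 = w.1 := congrArg Subtype.val hw
      exact hfree w.1 w.2 hw'
  rw [hfix, Module.card_eq_pow_finrank (K := K) (V := W)] at h1
  have hd : Module.finrank K W ≤ 7 := by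
    have := Submodule.finrank_le W
    simpa using this
  rcases Nat.eq_zero_or_pos (Module.finrank K W) with h0 | h0
  · exact Or.inl h0
  · right
    apply D.hord _ h0 hd
    exact (Nat.modEq_iff_dvd' (Nat.one_le_pow _ _ Fintype.card_pos)).mp h1.symm

theorem free_WW (D : Dat K p X) : ∀ w ∈ WW p X, X.mulVec w = w → w = 0 := by
  intro w hw h
  rw [← E_fixed D h]
  exact hw

theorem E_ne_one (D : Dat K p X) : EE p X ≠ 1 := by
  intro h
  have := X_mul_E D
  rw [h, mul_one] at this
  exact D.hX1 this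

theorem finrank_WW (D : Dat K p X) : Module.finrank K (WW p X) = 6 := by
  rcases finrank_of_free D (WW p X) (fun w hw => inv_WW rfl hw) (free_WW D) with h | h
  · exfalso
    apply E_ne_one D
    have hbot : WW p X = ⊥ := Submodule.finrank_eq_zero.mp h
    apply Matrix.mulVec_injective
    funext v
    have := sub_E_mem D v
    rw [hbot, Submodule.mem_bot, sub_eq_zero] at this
    rw [← this, Matrix.one_mulVec]
  · exact h

theorem irr_WW (D : Dat K p X) (U : Submodule K (Fin 7 → K)) (hU : U ≤ WW p X)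
    (hinv : ∀ w ∈ U, X.mulVec w ∈ U) : U = ⊥ ∨ U = WW p X := by
  rcases finrank_of_free D U hinv (fun w hw => free_WW D w (hU hw)) with h | h
  · exact Or.inl (Submodule.finrank_eq_zero.mp h)
  · right
    apply Submodule.eq_of_le_of_finrank_eq hU
    rw [h, finrank_WW D]

/-- Schur -/
theorem schur (D : Dat K p X) {a : Matrix (Fin 7) (Fin 7) K} (h : a * X = X * a) :
    (∀ w ∈ WW p X, a.mulVec w = 0) ∨ (∀ w ∈ WW p X, a.mulVec w = 0 → w = 0) := by
  rcases irr_WW D (WW p X ⊓ LinearMap.ker (Matrix.mulVecLin a)) inf_le_left (by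
    rintro w ⟨h1, h2⟩
    refine ⟨inv_WW rfl h1, ?_⟩
    have h2' : a.mulVec w = 0 := h2
    show a.mulVec (X.mulVec w) = 0
    rw [Matrix.mulVec_mulVec, h, ← Matrix.mulVec_mulVec, h2', Matrix.mulVec_zero]) with h0 | h0
  · right
    intro w hw haw
    have : w ∈ WW p X ⊓ LinearMap.ker (Matrix.mulVecLin a) := ⟨hw, haw⟩
    rw [h0] at this
    exact this
  · left
    intro w hw
    rw [← h0] at hw
    exact hw.2

/-- the fixed space is a line -/
theorem exists_scalar (D : Dat K p X) {a : Matrix (Fin 7) (Fin 7) K} (h : a * X = X * a) :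
    ∃ c : K, a * EE p X = c • EE p X := by
  have h1 : Module.finrank K (LinearMap.range (Matrix.mulVecLin (EE p X))) = 1 := by
    have := LinearMap.finrank_range_add_finrank_ker (Matrix.mulVecLin (EE p X))
    have h6 : Module.finrank K (LinearMap.ker (Matrix.mulVecLin (EE p X))) = 6 := finrank_WW D
    rw [h6] at this
    simp at this
    omega
  obtain ⟨⟨v0, hv0⟩, hne, hall⟩ := finrank_eq_one_iff'.mp h1
  obtain ⟨u0, hu0⟩ := hv0
  have hu0' : (EE p X).mulVec u0 = v0 := hu0
  have hEv0 : (EE p X).mulVec v0 = v0 := by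
    rw [← hu0', Matrix.mulVec_mulVec, E_mul_E D]
  obtain ⟨c, hc⟩ := hall ⟨a.mulVec v0, ⟨a.mulVec v0, by
    show (EE p X).mulVec (a.mulVec v0) = a.mulVec v0
    rw [Matrix.mulVec_mulVec, ← comm_E h, ← Matrix.mulVec_mulVec, hEv0]⟩⟩
  have hc' : c • v0 = a.mulVec v0 := congrArg Subtype.val hc
  refine ⟨c, ?_⟩
  apply Matrix.mulVec_injective
  funext v
  obtain ⟨t, ht⟩ := hall ⟨(EE p X).mulVec v, ⟨v, rfl⟩⟩
  have ht' : t • v0 = (EE p X).mulVec v := congrArg Subtype.val ht
  rw [← Matrix.mulVec_mulVec, Matrix.smul_mulVec, ← ht', Matrix.mulVec_smul, ← hc', smul_comm]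

theorem E_ne_zero (D : Dat K p X) : EE p X ≠ 0 := by
  intro h
  have h6 := finrank_WW D
  have : WW p X = ⊤ := by
    rw [WW, h]
    ext v
    simp
  rw [this] at h6
  simp at h6

/-- the centraliser algebra -/
abbrev BB (X : Matrix (Fin 7) (Fin 7) K) : Subalgebra K (Matrix (Fin 7) (Fin 7) K) :=
  Subalgebra.centralizer K {X}

theorem mem_BB {a : Matrix (Fin 7) (Fin 7) K} : a ∈ BB X ↔ a * X = X * a := by
  rw [Subalgebra.mem_centralizer_iff]
  constructor
  · intro h
    exact (h X rfl).symm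
  · intro h g hg
    rw [Set.mem_singleton_iff] at hg
    subst hg
    exact h.symm

/-- the complement of the fixed vectors, as a type -/
def W7 (p : ℕ) (X : Matrix (Fin 7) (Fin 7) K) : Type _ := ↥(WW p X)

noncomputable instance : AddCommGroup (W7 p X) := inferInstanceAs (AddCommGroup ↥(WW p X))

noncomputable instance : Module K (W7 p X) := inferInstanceAs (Module K ↥(WW p X))

/-- restriction to the complement of the fixed vectors -/
noncomputable def res (p : ℕ) (X : Matrix (Fin 7) (Fin 7) K) :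
    BB X →ₐ[K] Module.End K (W7 p X) where
  toFun a :=
    { toFun := fun w => ⟨a.1.mulVec w.1, inv_WW (mem_BB.mp a.2) w.2⟩
      map_add' := fun u v => Subtype.ext (Matrix.mulVec_add a.1 u.1 v.1)
      map_smul' := fun c v => Subtype.ext (Matrix.mulVec_smul a.1 c v.1) }
  map_one' := by
    apply LinearMap.ext
    intro w
    apply Subtype.ext
    show (1 : Matrix (Fin 7) (Fin 7) K).mulVec w.1 = w.1
    rw [Matrix.one_mulVec]
  map_mul' a b := by
    apply LinearMap.ext
    intro w
    apply Subtype.ext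
    show (a.1 * b.1).mulVec w.1 = a.1.mulVec (b.1.mulVec w.1)
    rw [Matrix.mulVec_mulVec]
  map_zero' := by
    apply LinearMap.ext
    intro w
    apply Subtype.ext
    show (0 : Matrix (Fin 7) (Fin 7) K).mulVec w.1 = 0
    rw [Matrix.zero_mulVec]
  map_add' a b := by
    apply LinearMap.ext
    intro w
    apply Subtype.ext
    show (a.1 + b.1).mulVec w.1 = a.1.mulVec w.1 + b.1.mulVec w.1
    rw [Matrix.add_mulVec]
  commutes' r := by
    apply LinearMap.ext
    intro w
    apply Subtype.ext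
    show (algebraMap K (Matrix (Fin 7) (Fin 7) K) r).mulVec w.1 = r • w.1
    rw [Algebra.algebraMap_eq_smul_one, Matrix.smul_mulVec, Matrix.one_mulVec]

theorem res_apply (a : BB X) (w : W7 p X) : ((res p X a w : W7 p X)).1 = a.1.mulVec w.1 :=
  rfl

/-- the field -/
noncomputable abbrev RR (p : ℕ) (X : Matrix (Fin 7) (Fin 7) K) :
    Subalgebra K (Module.End K (W7 p X)) :=
  (res p X).range

/-- the map onto the field -/
noncomputable abbrev rr (p : ℕ) (X : Matrix (Fin 7) (Fin 7) K) : BB X →ₐ[K] RR p X :=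
  (res p X).rangeRestrict

theorem rr_eq_iff (a b : BB X) :
    rr p X a = rr p X b ↔ ∀ w ∈ WW p X, a.1.mulVec w = b.1.mulVec w := by
  constructor
  · intro h w hw
    have h1 : res p X a = res p X b := congrArg Subtype.val h
    have h2 := congrArg Subtype.val (LinearMap.congr_fun h1 ⟨w, hw⟩)
    exact h2
  · intro h
    apply Subtype.ext
    show res p X a = res p X b
    apply LinearMap.ext
    intro w
    apply Subtype.ext
    exact h w.1 w.2

theorem finite_RR : Finite (RR p X) :=
  Finite.of_surjective (rr p X) (res p X).rangeRestrict_surjective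

theorem nontrivial_RR (D : Dat K p X) : Nontrivial (RR p X) := by
  refine ⟨⟨rr p X 0, rr p X 1, ?_⟩⟩
  intro h
  rw [rr_eq_iff] at h
  have h6 := finrank_WW D
  have : WW p X = ⊥ := by
    rw [eq_bot_iff]
    intro w hw
    have := h w hw
    rw [Submodule.mem_bot]
    have h1 : (0 : Matrix (Fin 7) (Fin 7) K).mulVec w = (1 : Matrix (Fin 7) (Fin 7) K).mulVec w := this
    rw [Matrix.zero_mulVec, Matrix.one_mulVec] at h1
    exact h1.symm
  rw [this] at h6
  simp at h6

theorem nzd_RR (D : Dat K p X) : NoZeroDivisors (RR p X) := by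
  refine ⟨?_⟩
  intro φ ψ h
  obtain ⟨a, rfl⟩ := (res p X).rangeRestrict_surjective φ
  obtain ⟨b, rfl⟩ := (res p X).rangeRestrict_surjective ψ
  have h0 : rr p X (a * b) = rr p X 0 := by
    rw [map_mul, map_zero]
    exact h
  rw [rr_eq_iff] at h0
  have h0' : ∀ w ∈ WW p X, a.1.mulVec (b.1.mulVec w) = 0 := by
    intro w hw
    have := h0 w hw
    have h1 : (a.1 * b.1).mulVec w = (0 : Matrix (Fin 7) (Fin 7) K).mulVec w := this
    rw [Matrix.zero_mulVec, ← Matrix.mulVec_mulVec] at h1
    exact h1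
  rcases schur D (mem_BB.mp a.2) with h1 | h1
  · left
    have : rr p X a = rr p X 0 := by
      rw [rr_eq_iff]
      intro w hw
      rw [h1 w hw]
      exact (Matrix.zero_mulVec w).symm
    rw [map_zero] at this
    exact this
  · right
    have : rr p X b = rr p X 0 := by
      rw [rr_eq_iff]
      intro w hw
      rw [h1 _ (inv_WW (mem_BB.mp b.2) hw) (h0' w hw)]
      exact (Matrix.zero_mulVec w).symm
    rw [map_zero] at this
    exact this

theorem comm_of_dat (D : Dat K p X) {A B : Matrix (Fin 7) (Fin 7) K} (hA : A * X = X * A)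
    (hB : B * X = X * B) : A * B = B * A := by
  haveI := finite_RR (p := p) (X := X)
  haveI := nontrivial_RR D
  haveI := nzd_RR D
  haveI := NoZeroDivisors.to_isDomain (RR p X)
  have hcomm := (Finite.isDomain_to_isField (RR p X)).mul_comm
  have h1 := hcomm (rr p X ⟨A, mem_BB.mpr hA⟩) (rr p X ⟨B, mem_BB.mpr hB⟩)
  rw [← map_mul, ← map_mul, rr_eq_iff] at h1
  obtain ⟨ca, hca⟩ := exists_scalar D hA
  obtain ⟨cb, hcb⟩ := exists_scalar D hB
  rw [← sub_eq_zero]
  apply eq_zero_of D
  · rw [sub_mul, mul_assoc, mul_assoc, hca, hcb, Matrix.mul_smul, Matrix.mul_smul, hca, hcb,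
      smul_smul, smul_smul, mul_comm, sub_self]
  · intro w hw
    rw [Matrix.sub_mulVec, sub_eq_zero]
    exact h1 w hw

theorem cyclic_of_dat (D : Dat K p X) (x : GL (Fin 7) K)
    (hx : (x : Matrix (Fin 7) (Fin 7) K) = X)
    (Dg : Subgroup (GL (Fin 7) K)) (hD : ∀ a ∈ Dg, a * x = x * a)
    (hcop : (Nat.card Dg).Coprime (Fintype.card K - 1)) : IsCyclic Dg := by
  haveI := finite_RR (p := p) (X := X)
  haveI := nontrivial_RR D
  haveI := nzd_RR D
  haveI := NoZeroDivisors.to_isDomain (RR p X)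
  letI : CommRing (RR p X) :=
    { (inferInstance : Ring (RR p X)) with
      mul_comm := (Finite.isDomain_to_isField (RR p X)).mul_comm }
  have hcm : ∀ a : Dg, ((a : GL (Fin 7) K) : Matrix (Fin 7) (Fin 7) K) * X
      = X * ((a : GL (Fin 7) K) : Matrix (Fin 7) (Fin 7) K) := by
    intro a
    have := congrArg (fun u : GL (Fin 7) K => (u : Matrix (Fin 7) (Fin 7) K)) (hD a a.2)
    rw [← hx]
    exact this
  let g0 : Dg →* BB X :=
    { toFun := fun a => ⟨((a : GL (Fin 7) K) : Matrix (Fin 7) (Fin 7) K), mem_BB.mpr (hcm a)⟩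
      map_one' := by
        apply Subtype.ext
        simp
      map_mul' := fun a b => by
        apply Subtype.ext
        simp }
  let g : Dg →* RR p X := (MonoidHomClass.toMonoidHom (rr p X)).comp g0
  have hg : ∀ a : Dg, g a
      = rr p X ⟨((a : GL (Fin 7) K) : Matrix (Fin 7) (Fin 7) K), mem_BB.mpr (hcm a)⟩ := fun _ => rfl
  apply isCyclic_of_injective_ringHom g
  rw [injective_iff_map_eq_one]
  intro d hd
  set M : Matrix (Fin 7) (Fin 7) K := ((d : GL (Fin 7) K) : Matrix (Fin 7) (Fin 7) K) with hM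
  have hd' : rr p X ⟨M, mem_BB.mpr (hcm d)⟩ = rr p X 1 := by
    rw [map_one, ← hg]
    exact hd
  rw [rr_eq_iff] at hd'
  obtain ⟨c, hc⟩ := exists_scalar D (hcm d)
  have hpow : ∀ k : ℕ, M ^ k * EE p X = c ^ k • EE p X := by
    intro k
    induction k with
    | zero => simp
    | succ k ih => rw [pow_succ, mul_assoc, hc, Matrix.mul_smul, ih, smul_smul, pow_succ, mul_comm]
  have hM1 : M ^ Nat.card Dg = 1 := by
    have h1 : d ^ Nat.card Dg = 1 := pow_card_eq_one'
    have h2 := congrArg (fun u : Dg => ((u : GL (Fin 7) K) : Matrix (Fin 7) (Fin 7) K)) h1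
    simp only [Subgroup.coe_pow, Units.val_pow_eq_pow_val, Subgroup.coe_one, Units.val_one] at h2
    exact h2
  have hc1 : c ^ Nat.card Dg = 1 := by
    have h1 := hpow (Nat.card Dg)
    rw [hM1, one_mul] at h1
    by_contra hne
    apply E_ne_zero D
    have h2 : (1 - c ^ Nat.card Dg) • EE p X = 0 := by
      rw [sub_smul, one_smul, ← h1, sub_self]
    rcases smul_eq_zero.mp h2 with h3 | h3
    · exact absurd (sub_eq_zero.mp h3).symm hne
    · exact h3
  have hc0 : c ≠ 0 := by
    rintro rfl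
    rw [zero_pow Nat.card_pos.ne'] at hc1
    exact zero_ne_one hc1
  have hc2 : c ^ (Fintype.card K - 1) = 1 := FiniteField.pow_card_sub_one_eq_one c hc0
  have hc3 : c = 1 := by
    have := pow_gcd_eq_one.mpr ⟨hc1, hc2⟩
    rw [Nat.Coprime.gcd_eq_one hcop, pow_one] at this
    exact this
  have hfin : M - 1 = 0 := by
    apply eq_zero_of D
    · rw [sub_mul, one_mul, hc, hc3, one_smul, sub_self]
    · intro w hw
      rw [Matrix.sub_mulVec, sub_eq_zero]
      exact hd' w hw
  apply Subtype.ext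
  apply Units.ext
  exact sub_eq_zero.mp hfin

theorem count_of_dat (D : Dat K p X) (x : GL (Fin 7) K)
    (hx : (x : Matrix (Fin 7) (Fin 7) K) = X) :
    Set.ncard {y : GL (Fin 7) K | y ∈ Subgroup.zpowers x ∧ IsConj x y} ≤ 6 := by
  classical
  haveI := finite_RR (p := p) (X := X)
  haveI := nontrivial_RR D
  haveI := nzd_RR D
  haveI := NoZeroDivisors.to_isDomain (RR p X)
  letI : CommRing (RR p X) :=
    { (inferInstance : Ring (RR p X)) with
      mul_comm := (Finite.isDomain_to_isField (RR p X)).mul_comm }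
  have hzp : ∀ y ∈ Subgroup.zpowers x, ∃ n : ℕ, (y : Matrix (Fin 7) (Fin 7) K) = X ^ n := by
    intro y hy
    obtain ⟨n, hn⟩ := (mem_powers_iff_mem_zpowers).mpr hy
    refine ⟨n, ?_⟩
    have hn' : x ^ n = y := hn
    rw [← hn', ← hx]
    simp
  have hBB : ∀ y ∈ Subgroup.zpowers x, (y : Matrix (Fin 7) (Fin 7) K) ∈ BB X := by
    intro y hy
    obtain ⟨n, hn⟩ := hzp y hy
    rw [mem_BB, hn, ← pow_succ, ← pow_succ']
  have hYE : ∀ y ∈ Subgroup.zpowers x, (y : Matrix (Fin 7) (Fin 7) K) * EE p X = EE p X := by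
    intro y hy
    obtain ⟨n, hn⟩ := hzp y hy
    rw [hn, pow_mul_E D]
  let φ : GL (Fin 7) K → RR p X := fun y =>
    if h : (y : Matrix (Fin 7) (Fin 7) K) ∈ BB X then rr p X ⟨_, h⟩ else 0
  have hφ : ∀ y (hy : y ∈ Subgroup.zpowers x), φ y = rr p X ⟨_, hBB y hy⟩ := by
    intro y hy
    exact dif_pos (hBB y hy)
  have hinj : ∀ y₁ ∈ Subgroup.zpowers x, ∀ y₂ ∈ Subgroup.zpowers x, φ y₁ = φ y₂ → y₁ = y₂ := by
    intro y₁ h₁ y₂ h₂ h
    rw [hφ y₁ h₁, hφ y₂ h₂, rr_eq_iff] at h
    apply Units.ext
    rw [← sub_eq_zero]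
    apply eq_zero_of D
    · rw [sub_mul, hYE y₁ h₁, hYE y₂ h₂, sub_self]
    · intro w hw
      rw [Matrix.sub_mulVec, sub_eq_zero]
      exact h w hw
  set P0 : Polynomial K := X.charpoly with hP0
  set P : Polynomial (RR p X) := P0.map (algebraMap K (RR p X)) with hP
  have hPne : P ≠ 0 := ((Matrix.charpoly_monic X).map (algebraMap K (RR p X))).ne_zero
  set Rts : Finset (RR p X) := P.roots.toFinset with hRts
  have hcard : Rts.card ≤ 7 := by
    calc Rts.card ≤ Multiset.card P.roots := Multiset.toFinset_card_le _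
      _ ≤ P.natDegree := Polynomial.card_roots' _
      _ ≤ P0.natDegree := Polynomial.natDegree_map_le
      _ = 7 := by rw [hP0, Matrix.charpoly_natDegree_eq_dim]; rfl
  have hone : (1 : RR p X) ∈ Rts := by
    rw [hRts, Multiset.mem_toFinset, Polynomial.mem_roots hPne, Polynomial.IsRoot, hP,
      Polynomial.eval_map_algebraMap]
    have h1 : (1 : RR p X) = algebraMap K (RR p X) 1 := (map_one _).symm
    rw [h1, Polynomial.aeval_algebraMap_apply]
    have h2 : Polynomial.aeval (1 : K) P0 = 0 := by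
      rw [Polynomial.coe_aeval_eq_eval, hP0, Matrix.eval_charpoly]
      -- a fixed vector
      have hE := E_ne_zero D
      obtain ⟨u, hu⟩ : ∃ u, (EE p X).mulVec u ≠ 0 := by
        by_contra hcon
        push Not at hcon
        apply hE
        apply Matrix.mulVec_injective
        funext v
        rw [hcon v, Matrix.zero_mulVec]
      apply Matrix.exists_mulVec_eq_zero_iff.mp
      refine ⟨_, hu, ?_⟩
      have hX : X.mulVec ((EE p X).mulVec u) = (EE p X).mulVec u := by
        rw [Matrix.mulVec_mulVec, X_mul_E D]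
      rw [Matrix.sub_mulVec, hX]
      simp
    rw [h2, map_zero]
  have hcard' : (Rts.erase 1).card ≤ 6 := by
    rw [Finset.card_erase_of_mem hone]
    omega
  have hx1 : x ≠ 1 := by
    rintro rfl
    apply D.hX1
    rw [← hx]
    rfl
  calc Set.ncard {y : GL (Fin 7) K | y ∈ Subgroup.zpowers x ∧ IsConj x y}
      ≤ Set.ncard ((Rts.erase 1 : Finset (RR p X)) : Set (RR p X)) := by
        apply Set.ncard_le_ncard_of_injOn φ _ _ (Finset.finite_toSet _)
        · rintro y ⟨hy, hconj⟩
          rw [Finset.mem_coe, Finset.mem_erase]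
          constructor
          · intro h1
            have h2 : φ 1 = 1 := by
              rw [hφ 1 (one_mem _)]
              exact map_one (rr p X)
            have h3 := hinj y hy 1 (one_mem _) (h1.trans h2.symm)
            rw [h3] at hconj
            exact hx1 (isConj_one_right.mp hconj.symm)
          · rw [hRts, Multiset.mem_toFinset, Polynomial.mem_roots hPne, Polynomial.IsRoot, hP,
              Polynomial.eval_map_algebraMap, hφ y hy, Polynomial.aeval_algHom_apply]
            have h1 : Polynomial.aeval (⟨_, hBB y hy⟩ : BB X) P0 = 0 := by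
              apply Subtype.ext
              rw [Polynomial.aeval_subalgebra_coe]
              obtain ⟨c, hc⟩ := isConj_iff.mp hconj
              have h2 := Matrix.charpoly_units_conj c X
              have h3 : (c : Matrix (Fin 7) (Fin 7) K) * X * (c : Matrix (Fin 7) (Fin 7) K)⁻¹
                  = (y : Matrix (Fin 7) (Fin 7) K) := by
                rw [← hc, ← hx, ← Matrix.coe_units_inv]
                rfl
              rw [h3] at h2
              show Polynomial.aeval (y : Matrix (Fin 7) (Fin 7) K) P0 = 0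
              rw [hP0, ← h2]
              exact Matrix.aeval_self_charpoly _
            rw [h1, map_zero]
        · rintro y₁ ⟨h₁, -⟩ y₂ ⟨h₂, -⟩ h
          exact hinj y₁ h₁ y₂ h₂ h
    _ = (Rts.erase 1).card := Set.ncard_coe_finset _
    _ ≤ 6 := hcard'

theorem L7 {K : Type*} [Field K] [Fintype K] {p : ℕ} (hp : p.Prime)
    (hord : ∀ d, 1 ≤ d → d ≤ 7 → p ∣ Fintype.card K ^ d - 1 → d = 6)
    (h6 : p ∣ Fintype.card K ^ 6 - 1)
    (x : GL (Fin 7) K) (hx : orderOf x = p) :
    (∀ a b : GL (Fin 7) K, a * x = x * a → b * x = x * b → a * b = b * a) ∧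
    (∀ D : Subgroup (GL (Fin 7) K), (∀ a ∈ D, a * x = x * a) →
      (Nat.card D).Coprime (Fintype.card K - 1) → IsCyclic D) ∧
    Set.ncard {y : GL (Fin 7) K | y ∈ Subgroup.zpowers x ∧ IsConj x y} ≤ 6 := by
  have hpK : (p : K) ≠ 0 := by
    intro h0
    obtain ⟨c, hc⟩ := h6
    have h1 : 1 ≤ Fintype.card K ^ 6 := Nat.one_le_pow _ _ Fintype.card_pos
    have h2 : Fintype.card K ^ 6 = p * c + 1 := by omega
    have h3 := congrArg (fun n : ℕ => (n : K)) h2
    simp only [Nat.cast_pow, Nat.cast_add, Nat.cast_mul, Nat.cast_one, h0, zero_mul, zero_add,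
      FiniteField.cast_card_eq_zero] at h3
    rw [zero_pow (by norm_num)] at h3
    exact zero_ne_one h3
  have D : Dat K p (x : Matrix (Fin 7) (Fin 7) K) :=
    { hp := hp
      hord := hord
      hpK := hpK
      hXp := by
        have h1 : x ^ p = 1 := by rw [← hx, pow_orderOf_eq_one]
        have h2 := congrArg (fun u : GL (Fin 7) K => (u : Matrix (Fin 7) (Fin 7) K)) h1
        simpa using h2
      hX1 := by
        intro h
        have h1 : x = 1 := Units.ext h
        rw [h1, orderOf_one] at hx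
        exact hp.one_lt.ne hx }
  refine ⟨?_, ?_, count_of_dat D x rfl⟩
  · intro a b ha hb
    apply Units.ext
    exact comm_of_dat D
      (congrArg (fun u : GL (Fin 7) K => (u : Matrix (Fin 7) (Fin 7) K)) ha)
      (congrArg (fun u : GL (Fin 7) K => (u : Matrix (Fin 7) (Fin 7) K)) hb)
  · intro Dg hD hcop
    exact cyclic_of_dat D x rfl Dg hD hcop

end Cfsg.Agent.Lib.Helper67.Ree
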