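import Mathlib
import Cfsg.Agent.Lib.Helper99.SPU.Defs
import Cfsg.Agent.Lib.Helper99.PGB.Defs
import Cfsg.Agent.Lib.Helper99.SP8.Main
import Cfsg.Agent.Lib.Helper66.PSAAR

set_option autoImplicit false

universe u

namespace Cfsg.Agent.Lib.Helper67.SPU

open Module LinearMap QuadraticMap Cfsg.Agent.Lib.Helper48 Cfsg.Agent.Lib.Helper17
  Cfsg.Agent.Lib.Helper99.SP8 Cfsg.Agent.Lib.Helper99.PGB Cfsg.Agent.Lib.Helper99.SPU

/-- the polar form of a quadratic form in characteristic 2 is alternating -/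
theorem polar_self_char_two {F V : Type*} [Field F] [CharP F 2] [AddCommGroup V] [Module F V]
    (Q : QuadraticForm F V) (x : V) : polar Q x x = 0 := by
  have h2 : (2 : F) = 0 := CharTwo.two_eq_zero
  rw [QuadraticMap.polar_self, two_smul, ← two_mul, h2, zero_mul]

/-- an isometry of `Q` is an isometry of the polar form -/
theorem isoB_polarBilin {F V : Type*} [Field F] [AddCommGroup V] [Module F V]
    (Q : QuadraticForm F V) (T : End F V) (hT : ∀ v, Q (T v) = Q v) : IsoB Q.polarBilin T := by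
  intro x y
  rw [QuadraticMap.polarBilin_apply_apply, QuadraticMap.polarBilin_apply_apply,
    QuadraticMap.polar, QuadraticMap.polar,
    ← map_add, hT, hT, hT]

/-- ARJ -/
theorem AR_unip (F : Type u) [Field F] [Fintype F] [CharP F 2] {c a : ℕ} (h : 2 ^ a < 2 * c) :
    AR F (2 * c) (2 ^ (a + 1)) := by
  have ha : 1 ≤ 2 ^ a := Nat.one_le_two_pow
  have hc : 1 ≤ c := by omega
  obtain ⟨V, i1, i2, i3, Q, T, hTyp, hiso, hz, hnz⟩ := QJ_all F true c hc
  have hTb : T ^ (2 ^ (2 * c)) = 1 := by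
    have h1 : (T - 1) ^ (2 ^ (2 * c)) = 0 :=
      pow_eq_zero_of_le (Nat.lt_two_pow_self).le hz
    rw [Cfsg.Agent.Lib.Helper11.SP8.jord_pow] at h1
    exact sub_eq_zero.1 h1
  have hdvd : orderOf T ∣ 2 ^ (2 * c) := orderOf_dvd_of_pow_eq_one hTb
  obtain ⟨i, hib, hi⟩ := (Nat.dvd_prime_pow Nat.prime_two).1 hdvd
  have hia : a + 1 ≤ i := by
    by_contra hne
    have hle : i ≤ a := by omega
    have h3 : T ^ (2 ^ a) = 1 := by
      rw [← orderOf_dvd_iff_pow_eq_one, hi]
      exact pow_dvd_pow 2 hle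
    have h4 : (T - 1) ^ (2 ^ a) = 0 := by
      rw [Cfsg.Agent.Lib.Helper11.SP8.jord_pow, h3, sub_self]
    exact hnz (pow_eq_zero_of_le (by omega) h4)
  have hAR : AR F (2 * c) (2 ^ i) := by
    refine ⟨V, i1, i2, i3, Q.polarBilin, T, hTyp.1, fun x => polar_self_char_two Q x,
      fun x hx => hTyp.2.1 x hx, isoB_polarBilin Q T hiso, fun j => ?_⟩
    rw [← hi]
    exact (orderOf_dvd_iff_pow_eq_one).symm
  exact Cfsg.Agent.Lib.Helper66.PSA.AR_of_dvd hAR (by positivity) (pow_dvd_pow 2 hia)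

end Cfsg.Agent.Lib.Helper67.SPU
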