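import Mathlib
import Cfsg.Agent.Lib.Helper99.SPU.Defs
import Cfsg.Agent.Lib.Helper99.PGB.Defs
import Cfsg.Agent.Lib.Helper99.SP8.Main
import Cfsg.Agent.Lib.Helper11.PGBADD
import Cfsg.Agent.Lib.Helper67.SPUARJ
import Cfsg.Agent.Lib.Helper67.SPURK
import Cfsg.Agent.Lib.Helper67.SPUNMU

set_option autoImplicit false

universe u

namespace Cfsg.Agent.Lib.Helper67.SPU

open Module LinearMap QuadraticMap Cfsg.Agent.Lib.Helper48 Cfsg.Agent.Lib.Helper17
  Cfsg.Agent.Lib.Helper99.SP8 Cfsg.Agent.Lib.Helper99.PGB Cfsg.Agent.Lib.Helper99.SPU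
  Cfsg.Agent.Lib.Helper99.SPD Cfsg.Agent.Lib.Helper11.PGB Cfsg.Agent.Lib.Helper11.SP8

/-- UPPER -/
theorem upper {F : Type u} [Field F] [Fintype F] [CharP F 2] {V : Type u} [AddCommGroup V]
    [Module F V] [FiniteDimensional F V] (B : LinearMap.BilinForm F V) (halt : ∀ v, B v v = 0)
    (hnd : ∀ x, (∀ y, B x y = 0) → x = 0) {d : ℕ} (hdim : finrank F V = d) (T : End F V)
    (hT : IsoB B T) {K : ℕ} (hK : 0 < K) (hord : ∀ j, T ^ j = 1 ↔ K ∣ j)
    (hev : Even (finrank F (ker (T - 1)))) (hN : Nm T K ≠ 0) : AR F d (2 * K) := by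
  obtain ⟨a, m, x, y, hm, hKam, hsord, huord, hsu⟩ := parts T hK hord
  obtain ⟨s, hs_def⟩ : ∃ s, s = T ^ x := ⟨_, rfl⟩
  obtain ⟨u, hu_def⟩ : ∃ u, u = T ^ y := ⟨_, rfl⟩
  rw [← hs_def, ← hu_def] at hsu
  rw [← hs_def] at hsord
  rw [← hu_def] at huord
  have hs : IsoB B s := hs_def ▸ isoB_pow hT x
  have hmF := odd_cast_ne_zero (F := F) hm
  have hsm : s ^ m = 1 := (hsord m).2 dvd_rfl
  have hua : u ^ 2 ^ a = 1 := (huord _).2 dvd_rfl
  have hNa : (u - 1) ^ 2 ^ a = 0 := by rw [jord_pow, hua, sub_self]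
  have hcsT : Commute s T := by rw [hs_def]; exact (Commute.refl T).pow_left x
  have hcsu : Commute s u := by rw [hs_def, hu_def]; exact (Commute.refl T).pow_pow x y
  have hcompl := isCompl_ker_range s hmF hsm
  have hcop : Nat.Coprime (2 ^ (a + 1)) m := Nat.Coprime.pow_left _ (Nat.coprime_two_left.2 hm)
  have hWT : ∀ w ∈ range (s - 1), T w ∈ range (s - 1) := by
    rintro _ ⟨v, rfl⟩
    refine ⟨T v, ?_⟩
    have h1 : (s - 1) * T = T * (s - 1) := by
      rw [sub_mul, mul_sub, hcsT.eq, one_mul, mul_one]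
    exact congrArg (fun f : End F V => f v) h1
  have hWs : ∀ w ∈ range (s - 1), s w ∈ range (s - 1) := by
    rintro _ ⟨v, rfl⟩
    refine ⟨s v, ?_⟩
    have h1 : (s - 1) * s = s * (s - 1) := by
      rw [sub_mul, mul_sub, one_mul, mul_one]
    exact congrArg (fun f : End F V => f v) h1
  have hort : ∀ w ∈ range (s - 1), ∀ z ∈ ker (s - 1), B w z = 0 := by
    rintro _ ⟨v, rfl⟩ z hz
    have hz' : s z = z := mem_ker_sub_one.1 hz
    rw [LinearMap.sub_apply, Module.End.one_apply, map_sub, LinearMap.sub_apply]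
    nth_rewrite 1 [← hz']
    rw [hs, sub_self]
  have hort' : ∀ z ∈ ker (s - 1), ∀ w ∈ range (s - 1), B z w = 0 := by
    rintro z hz _ ⟨v, rfl⟩
    have hz' : s z = z := mem_ker_sub_one.1 hz
    rw [LinearMap.sub_apply, Module.End.one_apply, map_sub]
    nth_rewrite 1 [← hz']
    rw [hs, sub_self]
  have hndW : ∀ x ∈ range (s - 1), (∀ y ∈ range (s - 1), B x y = 0) → x = 0 := by
    intro x hx h
    apply hnd
    intro v
    obtain ⟨z, hz, w, hw, rfl⟩ := exists_dec hcompl v
    rw [map_add, hort x hx z hz, h w hw, add_zero]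
  have hndZ : ∀ x ∈ ker (s - 1), (∀ y ∈ ker (s - 1), B x y = 0) → x = 0 := by
    intro x hx h
    apply hnd
    intro v
    obtain ⟨z, hz, w, hw, rfl⟩ := exists_dec hcompl v
    rw [map_add, hort' x hx w hw, h z hz, add_zero]
  -- `Nm T K` vanishes on `W`
  have hNW : ∀ w ∈ range (s - 1), Nm T K w = 0 := by
    have hinv : ∀ w ∈ range (s - 1), (T - 1) w ∈ range (s - 1) := by
      intro w hw
      rw [LinearMap.sub_apply, Module.End.one_apply]
      exact Submodule.sub_mem _ (hWT w hw) hw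
    have hinj : Function.Injective ((T - 1).restrict hinv : End F (range (s - 1))) := by
      rw [← LinearMap.ker_eq_bot, LinearMap.ker_eq_bot']
      intro v hv
      have h1 : T (v : V) = v := by
        have h0 : (T - 1) (v : V) = 0 := congrArg Subtype.val hv
        rwa [LinearMap.sub_apply, Module.End.one_apply, sub_eq_zero] at h0
      have h2 : s (v : V) = v := by
        have h2' := pow_apply_fixed h1 x
        rwa [← hs_def] at h2'
      have h3 : (v : V) ∈ ker (s - 1) ⊓ range (s - 1) := ⟨mem_ker_sub_one.2 h2, v.2⟩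
      rw [hcompl.inf_eq_bot] at h3
      exact Subtype.ext ((Submodule.mem_bot F).1 h3)
    have hsurj := LinearMap.injective_iff_surjective.1 hinj
    intro w hw
    obtain ⟨w', hw'⟩ := hsurj ⟨w, hw⟩
    have h1 : (T - 1) (w' : V) = w := congrArg Subtype.val hw'
    have h2 : Nm T K * (T - 1) = 0 := by
      unfold Nm
      rw [geom_sum_mul, (hord K).2 dvd_rfl, sub_self]
    rw [← h1, ← Module.End.mul_apply, h2, LinearMap.zero_apply]
  obtain ⟨v, hv⟩ : ∃ v, Nm T K v ≠ 0 := by
    by_contra hcon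
    push Not at hcon
    exact hN (LinearMap.ext hcon)
  obtain ⟨z, hz, w, hw, rfl⟩ := exists_dec hcompl v
  rw [map_add, hNW w hw, add_zero] at hv
  -- on `Z`, `T = u`
  have hZu : ∀ z ∈ ker (s - 1), u z ∈ ker (s - 1) := fun z hz => ker_inv hcsu hz
  have hTu : ∀ z ∈ ker (s - 1), T z = u z := by
    intro z hz
    rw [← hsu, Module.End.mul_apply]
    exact mem_ker_sub_one.1 (hZu z hz)
  have hTui : ∀ i, ∀ z ∈ ker (s - 1), (T ^ i) z = (u ^ i) z := by
    intro i
    induction i with
    | zero => intro z _; rfl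
    | succ i ih =>
      intro z hz
      rw [pow_succ, pow_succ, Module.End.mul_apply, Module.End.mul_apply, hTu z hz,
        ih _ (hZu z hz)]
  have hNmz : Nm T K z = (m : F) • ((u - 1) ^ (2 ^ a - 1) : End F V) z := by
    have h1 : Nm T K z = Nm u K z := by
      unfold Nm
      rw [LinearMap.sum_apply, LinearMap.sum_apply]
      exact Finset.sum_congr rfl (fun i _ => hTui i z hz)
    rw [h1, hKam, Nm_mul u hua m, Nm_two_pow, LinearMap.smul_apply]
  have hz1 : ((u - 1) ^ (2 ^ a - 1) : End F V) z ≠ 0 := by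
    intro h0
    apply hv
    rw [hNmz, h0, smul_zero]
  have hZN : ∀ z ∈ ker (s - 1), (u - 1) z ∈ ker (s - 1) :=
    fun z hz => ker_inv (hcsu.sub_right (Commute.one_right s)) hz
  obtain ⟨N, hN_def⟩ : ∃ N : End F (ker (s - 1)), N = (u - 1).restrict hZN := ⟨_, rfl⟩
  have hNnil : IsNilpotent N := by
    refine ⟨2 ^ a, ?_⟩
    apply LinearMap.ext
    intro y
    apply Subtype.ext
    rw [hN_def, restrict_pow_apply, hNa]
    rfl
  have hNk : N ^ (2 ^ a - 1) ≠ 0 := by
    intro h0
    apply hz1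
    have h1 := restrict_pow_apply (u - 1) _ hZN (2 ^ a - 1) ⟨z, hz⟩
    rw [← hN_def, h0] at h1
    exact h1.symm
  have hrk := le_finrank_range N hNnil hNk
  have hker : finrank F (ker N) = finrank F (ker (T - 1)) := by
    have h1 : (ker N).map (ker (s - 1)).subtype = ker (T - 1) := by
      ext v
      constructor
      · rintro ⟨y, hy, rfl⟩
        have h2 : (u - 1) (y : V) = 0 := by
          have h3 := congrArg Subtype.val (mem_ker.1 hy)
          rw [hN_def] at h3
          exact h3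
        rw [LinearMap.sub_apply, Module.End.one_apply, sub_eq_zero] at h2
        rw [Submodule.subtype_apply, mem_ker_sub_one, hTu _ y.2, h2]
      · intro hv
        have h2 : T v = v := mem_ker_sub_one.1 hv
        have h3 : s v = v := by
          have h2' := pow_apply_fixed h2 x
          rwa [← hs_def] at h2'
        have h4 : v ∈ ker (s - 1) := mem_ker_sub_one.2 h3
        refine ⟨⟨v, h4⟩, ?_, rfl⟩
        rw [SetLike.mem_coe, mem_ker, hN_def]
        apply Subtype.ext
        change (u - 1) v = 0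
        rw [LinearMap.sub_apply, Module.End.one_apply, ← hTu v h4, h2, sub_self]
    rw [← h1]
    exact (LinearEquiv.finrank_eq (Submodule.equivMapOfInjective _
      (Submodule.injective_subtype _) _))
  have hker0 : finrank F (ker (T - 1)) ≠ 0 := by
    intro h0
    have hbot : ker (T - 1) = ⊥ := Submodule.finrank_eq_zero.1 h0
    apply hz1
    have h1 : ((u - 1) ^ (2 ^ a - 1) : End F V) z ∈ ker (s - 1) := pow_mem_of_inv hZN hz _
    have h2 : (u - 1) (((u - 1) ^ (2 ^ a - 1) : End F V) z) = 0 := by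
      rw [← Module.End.mul_apply, ← pow_succ', Nat.sub_add_cancel Nat.one_le_two_pow, hNa,
        LinearMap.zero_apply]
    rw [LinearMap.sub_apply, Module.End.one_apply, sub_eq_zero] at h2
    have h3 : ((u - 1) ^ (2 ^ a - 1) : End F V) z ∈ ker (T - 1) := by
      rw [mem_ker_sub_one, hTu _ h1, h2]
    rw [hbot] at h3
    exact (Submodule.mem_bot F).1 h3
  have hsumN := LinearMap.finrank_range_add_finrank_ker N
  have hARZ : AR F (finrank F (ker (s - 1))) 1 :=
    res_AR B _ halt hndZ 1 (fun _ _ => rfl) (fun _ h => h) (fun j => by simp)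
  obtain ⟨c, hc⟩ := AR_even hARZ
  obtain ⟨e, he⟩ := hev
  have h2a : 1 ≤ 2 ^ a := Nat.one_le_two_pow
  have hARu : AR F (2 * c) (2 ^ (a + 1)) := AR_unip F (by omega)
  have hARW : AR F (finrank F (range (s - 1))) m := by
    refine res_AR B _ halt hndW s hs hWs (fun j => ?_)
    rw [← hsord]
    constructor
    · intro h
      apply LinearMap.ext
      intro v
      obtain ⟨z, hz, w, hw, rfl⟩ := exists_dec hcompl v
      rw [map_add, h w hw, pow_apply_fixed (mem_ker_sub_one.1 hz), Module.End.one_apply]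
    · intro h w _
      rw [h, Module.End.one_apply]
  have hsum := Submodule.finrank_add_eq_of_isCompl hcompl
  have hfin := AR_add hARu hARW
  rw [hcop.lcm_eq_mul, show 2 * c + finrank F (range (s - 1)) = d by omega,
    show 2 ^ (a + 1) * m = 2 * K by rw [hKam, pow_succ]; ring] at hfin
  exact hfin

end Cfsg.Agent.Lib.Helper67.SPU
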