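import Mathlib
import Cfsg.Agent.Lib.Helper19.SplitCoprime

set_option autoImplicit false

/-! Rung L2c of the ladder UF: lifting a homomorphism through a surjection with `p`-group kernel. -/

namespace Cfsg.Agent.Lib.Helper67.UF

theorem exists_lift_of_coprime {G E Q : Type*} [Group G] [Finite G] [Group E] [Finite E] [Group Q]
    (π : E →* Q) (hπ : Function.Surjective π) {p : ℕ} [Fact p.Prime] (hker : IsPGroup p π.ker)
    (hcop : (Nat.card G).Coprime p) (ρ : G →* Q) : ∃ σ : G →* E, ∀ g, π (σ g) = ρ g := by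
  set E' : Subgroup (E × G) :=
    MonoidHom.eqLocus (π.comp (MonoidHom.fst E G)) (ρ.comp (MonoidHom.snd E G)) with hE'
  have hmem : ∀ x : E × G, x ∈ E' ↔ π x.1 = ρ x.2 := fun x => Iff.rfl
  set π' : E' →* G := (MonoidHom.snd E G).comp E'.subtype with hπ'
  have hsurj : Function.Surjective π' := by
    intro g
    obtain ⟨e, he⟩ := hπ (ρ g)
    exact ⟨⟨(e, g), (hmem _).mpr he⟩, rfl⟩
  have hkerp : IsPGroup p π'.ker := by
    rintro ⟨⟨⟨e, g⟩, hx⟩, hk⟩
    have hg : g = 1 := hk
    subst hg
    have he : e ∈ π.ker := by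
      rw [MonoidHom.mem_ker]
      have := (hmem _).mp hx
      simpa using this
    obtain ⟨k, hk'⟩ := hker ⟨e, he⟩
    refine ⟨k, ?_⟩
    have h1 : e ^ p ^ k = 1 := by simpa using congrArg Subtype.val hk'
    apply Subtype.ext
    apply Subtype.ext
    simp [h1]
  obtain ⟨k, hk⟩ := IsPGroup.iff_card.mp hkerp
  obtain ⟨s, hs, -⟩ := Cfsg.Agent.Lib.Helper19.split_of_coprime (⊥ : Subgroup G) π' hsurj 1
    (by
      intro n
      have : (n : G) = 1 := Subgroup.mem_bot.mp n.2
      simp [this])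
    (by
      have : (1 : (⊥ : Subgroup G) →* E').range = ⊥ := MonoidHom.range_one
      rw [this]
      infer_instance)
    (by
      rw [hk, Subgroup.index_bot]
      exact (Nat.Coprime.pow_right k hcop).symm)
  refine ⟨((MonoidHom.fst E G).comp E'.subtype).comp s, ?_⟩
  intro g
  have h1 := (hmem _).mp (s g).2
  have h2 : ((s g : E') : E × G).2 = g := hs g
  rw [h2] at h1
  exact h1

end Cfsg.Agent.Lib.Helper67.UF
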